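import Cfsg.Agent.H79.DadeExt.Basic

/-!
# Arithmetic of traces of matrices of finite order
-/

set_option autoImplicit false

namespace Cfsg.Agent.H79.DadeExt

open Module

variable {d : ℕ}

theorem isIntegral_trace {A : Matrix (Fin d) (Fin d) ℂ} {N : ℕ} (hN : 0 < N) (hA : A ^ N = 1) :
    IsIntegral ℤ A.trace := by
  obtain ⟨b, μ, hb, hμ⟩ := CharBasic.exists_eigenbasis (f := Matrix.toLinAlgEquiv' A) hN
    (by rw [← map_pow, hA, map_one])
  have : A.trace = ∑ i, μ i := by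
    rw [← CharBasic.trace_eq_sum_of_eigenbasis b μ _ hb]
    exact (Matrix.trace_toLin'_eq A).symm
  rw [this]
  exact IsIntegral.sum _ fun i _ => IsIntegral.of_pow hN (by rw [hμ i]; exact isIntegral_one)

/-- The trace of an idempotent is a natural number `m`, and `det (1 + (a - 1) P) = a ^ m`. -/
theorem exists_rank {P : Matrix (Fin d) (Fin d) ℂ} (hP : P * P = P) :
    ∃ m : ℕ, P.trace = m ∧ ∀ a : ℂ, (a • P + (1 - P)).det = a ^ m := by
  classical
  have hf : (1 - (2 : ℂ) • P) ^ 2 = 1 := by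
    rw [sq, sub_mul, mul_sub, mul_sub, one_mul, mul_one, one_mul, Matrix.smul_mul, Matrix.mul_smul,
      hP, smul_smul]
    match_scalars <;> ring
  obtain ⟨b, μ, hb, hμ⟩ := CharBasic.exists_eigenbasis
    (f := Matrix.toLinAlgEquiv' (1 - (2 : ℂ) • P)) two_pos (by rw [← map_pow, hf, map_one])
  set ν : Fin (finrank ℂ (Fin d → ℂ)) → ℂ := fun i => (1 - μ i) / 2 with hν
  have hPb : ∀ i, Matrix.toLinAlgEquiv' P (b i) = ν i • b i := by
    intro i
    have h := hb i
    rw [map_sub, map_one, map_smul, LinearMap.sub_apply, LinearMap.smul_apply,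
      Module.End.one_apply, sub_eq_iff_eq_add'] at h
    have h2 : (2 : ℂ) • Matrix.toLinAlgEquiv' P (b i) = (1 - μ i) • b i := by
      rw [sub_smul, one_smul, eq_sub_iff_add_eq]
      exact h.symm
    calc Matrix.toLinAlgEquiv' P (b i)
        = (2 : ℂ)⁻¹ • ((2 : ℂ) • Matrix.toLinAlgEquiv' P (b i)) := by
          rw [smul_smul, inv_mul_cancel₀ two_ne_zero, one_smul]
      _ = ν i • b i := by rw [h2, smul_smul, hν, inv_mul_eq_div]
  have hνv : ∀ i, ν i = 0 ∨ ν i = 1 := by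
    intro i
    rcases sq_eq_one_iff.1 (hμ i) with h | h
    · left; simp [hν, h]
    · right; simp [hν, h]
  let S := Finset.univ.filter fun i => ν i = 1
  refine ⟨S.card, ?_, fun a => ?_⟩
  · rw [show P.trace = ∑ i, ν i by
      rw [← CharBasic.trace_eq_sum_of_eigenbasis b ν _ hPb]
      exact (Matrix.trace_toLin'_eq P).symm]
    rw [Finset.card_filter, Nat.cast_sum]
    refine Finset.sum_congr rfl fun i _ => ?_
    rcases hνv i with h | h <;> simp [h]
  · have hW : ∀ i, Matrix.toLinAlgEquiv' (a • P + (1 - P)) (b i) = (a * ν i + (1 - ν i)) • b i := by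
      intro i
      simp only [map_add, map_sub, map_one, map_smul, LinearMap.add_apply, LinearMap.sub_apply,
        LinearMap.smul_apply, Module.End.one_apply, hPb, smul_smul, add_smul, sub_smul, one_smul]
    have hmat : LinearMap.toMatrix b b (Matrix.toLinAlgEquiv' (a • P + (1 - P))) =
        Matrix.diagonal fun i => a * ν i + (1 - ν i) := by
      ext i j
      rw [LinearMap.toMatrix_apply, hW, map_smul, Basis.repr_self, Finsupp.smul_single, smul_eq_mul,
        mul_one, Finsupp.single_apply, Matrix.diagonal_apply]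
      rcases eq_or_ne i j with rfl | hij
      · simp
      · simp [hij, hij.symm]
    have hdet : (a • P + (1 - P)).det = ∏ i, (a * ν i + (1 - ν i)) := by
      rw [← Matrix.det_diagonal, ← hmat, LinearMap.det_toMatrix]
      exact (LinearMap.det_toLin' _).symm
    rw [hdet, ← Finset.prod_const, Finset.prod_filter]
    refine Finset.prod_congr rfl fun i _ => ?_
    rcases hνv i with h | h <;> simp [h]

/-- Two matrices of finite order with equal traces of all powers have equal determinants. -/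
theorem det_eq_of_trace_pow {A B : Matrix (Fin d) (Fin d) ℂ} {N : ℕ} (hN : 0 < N) (hA : A ^ N = 1)
    (hB : B ^ N = 1) (h : ∀ j : ℕ, (A ^ j).trace = (B ^ j).trace) : A.det = B.det := by
  let a : (Matrix (Fin d) (Fin d) ℂ)ˣ := Units.ofPowEqOne A N hA hN.ne'
  let b : (Matrix (Fin d) (Fin d) ℂ)ˣ := Units.ofPowEqOne B N hB hN.ne'
  have hfo : IsOfFinOrder (a, b) :=
    isOfFinOrder_iff_pow_eq_one.2 ⟨N, hN, Prod.ext (Units.ext (by simp [a]))
      (Units.ext (by simp [b, hB]))⟩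
  let C := Subgroup.zpowers (a, b)
  have : Finite C := finite_zpowers.2 hfo
  let L := (Matrix.toLinAlgEquiv' : Matrix (Fin d) (Fin d) ℂ ≃ₐ[ℂ] Module.End ℂ (Fin d → ℂ))
  let ρ₁ : Representation ℂ C (Fin d → ℂ) :=
    (MonoidHomClass.toMonoidHom L).comp
      ((Units.coeHom _).comp ((MonoidHom.fst _ _).comp C.subtype))
  let ρ₂ : Representation ℂ C (Fin d → ℂ) :=
    (MonoidHomClass.toMonoidHom L).comp
      ((Units.coeHom _).comp ((MonoidHom.snd _ _).comp C.subtype))
  have hch : ρ₁.character = ρ₂.character := by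
    funext x
    obtain ⟨x, hx⟩ := x
    obtain ⟨j, hj⟩ := (hfo.mem_powers_iff_mem_zpowers).2 hx
    subst hj
    show LinearMap.trace ℂ _ (L (((a, b) ^ j).1 : Matrix (Fin d) (Fin d) ℂ)) =
      LinearMap.trace ℂ _ (L (((a, b) ^ j).2 : Matrix (Fin d) (Fin d) ℂ))
    simp only [Prod.pow_fst, Prod.pow_snd, Units.val_pow_eq_pow_val]
    exact (Matrix.trace_toLin'_eq _).trans ((h j).trans (Matrix.trace_toLin'_eq _).symm)
  obtain ⟨e⟩ := CharBasic.nonempty_equiv_of_character_eq ρ₁ ρ₂ hch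
  have hg := fun v => LinearMap.congr_fun
    (e.toIntertwiningMap.isIntertwining' ⟨(a, b), Subgroup.mem_zpowers _⟩) v
  have key : L B = (e.toLinearEquiv : (Fin d → ℂ) →ₗ[ℂ] Fin d → ℂ) ∘ₗ L A ∘ₗ
      (e.toLinearEquiv.symm : (Fin d → ℂ) →ₗ[ℂ] Fin d → ℂ) := by
    apply LinearMap.ext
    intro v
    have := hg (e.toLinearEquiv.symm v)
    simp only [LinearMap.comp_apply] at this
    refine Eq.trans ?_ this.symm
    show L B v = L B (e.toLinearEquiv (e.toLinearEquiv.symm v))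
    rw [LinearEquiv.apply_symm_apply]
  have h2 := congrArg LinearMap.det key
  rw [LinearMap.det_conj] at h2
  rw [← LinearMap.det_toLin' A, ← LinearMap.det_toLin' B]
  exact h2.symm

/-- `r` is not a unit among algebraic integers. -/
theorem not_isIntegral_inv_natCast {r : ℕ} (hr : 1 < r) : ¬ IsIntegral ℤ ((r : ℂ)⁻¹) := by
  intro h
  have h' : IsIntegral ℤ ((r : ℚ)⁻¹) := by
    rw [← isIntegral_algebraMap_iff (algebraMap ℚ ℂ).injective]
    rw [map_inv₀, map_natCast]
    exact h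
  obtain ⟨n, hn⟩ := IsIntegrallyClosed.isIntegral_iff.1 h'
  have h1 : ((n * r : ℤ) : ℚ) = ((1 : ℤ) : ℚ) := by
    rw [Int.cast_mul, Int.cast_one, Int.cast_natCast, show ((n : ℤ) : ℚ) = (r : ℚ)⁻¹ from hn,
      inv_mul_cancel₀ (Nat.cast_ne_zero.2 (by omega))]
  have h2 : (r : ℤ) ∣ 1 := ⟨n, by rw [mul_comm]; exact (Int.cast_inj.1 h1).symm⟩
  have := Int.natCast_dvd_natCast.1 (show ((r : ℕ) : ℤ) ∣ ((1 : ℕ) : ℤ) by simpa using h2)
  have := Nat.le_of_dvd one_pos this
  omega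

/-- `-x ≡ x` modulo `1 - ζ` is impossible for a unit `x`, `ζ` of odd prime order. -/
theorem congr_false {r : ℕ} (hr : r.Prime) (hodd : Odd r) {ζ x y γ : ℂ} (hζ : IsPrimitiveRoot ζ r)
    (hy : IsIntegral ℤ y) (hxy : x * y = 1) (hγ : IsIntegral ℤ γ)
    (h : -x - x = (1 - ζ) * γ) : False := by
  obtain ⟨n, rfl⟩ : ∃ n, r = n + 1 := ⟨r - 1, by have := hr.one_lt; omega⟩
  obtain ⟨m, hm⟩ := hodd
  have hζi : IsIntegral ℤ ζ := hζ.isIntegral (Nat.succ_pos n)
  have hp := hζ.prod_one_sub_pow_eq_order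
  obtain ⟨n', rfl⟩ : ∃ n', n = n' + 1 := ⟨n - 1, by have := hr.one_lt; omega⟩
  set rest := ∏ k ∈ Finset.range n', (1 - ζ ^ (k + 1 + 1)) with hrest
  have hp' : (1 - ζ) * rest = ((n' + 1 + 1 : ℕ) : ℂ) := by
    rw [Finset.prod_range_succ', zero_add, pow_one] at hp
    rw [mul_comm, hp]
    push_cast
    rfl
  set δ := rest + (m : ℂ) * (γ * y) with hδ
  have hδi : IsIntegral ℤ δ := by
    refine IsIntegral.add (IsIntegral.prod _ fun k _ => isIntegral_one.sub (hζi.pow _)) ?_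
    refine IsIntegral.mul ?_ (hγ.mul hy)
    simpa using isIntegral_algebraMap (R := ℤ) (A := ℂ) (x := (m : ℤ))
  have hN : n' + 1 + 1 = 2 * m + 1 := hm
  have hδ1 : (1 - ζ) * δ = 1 := by
    have hcast : ((n' + 1 + 1 : ℕ) : ℂ) = 2 * (m : ℂ) + 1 := by rw [hN]; push_cast; ring
    rw [hδ, mul_add, hp', hcast]
    linear_combination (-(m : ℂ) * y) * h + (-2 * (m : ℂ)) * hxy
  have hinv : ∀ k ∈ Finset.range (n' + 1), ∃ w : ℂ, IsIntegral ℤ w ∧ (1 - ζ ^ (k + 1)) * w = 1 := by
    intro k hk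
    rw [Finset.mem_range] at hk
    have hcop : (k + 1).Coprime (n' + 1 + 1) :=
      (Nat.coprime_of_lt_prime (by omega) (by omega) hr).symm
    obtain ⟨j, hj⟩ := Nat.exists_mul_mod_eq_one_of_coprime hcop (by omega)
    refine ⟨(∑ i ∈ Finset.range j, (ζ ^ (k + 1)) ^ i) * δ,
      (IsIntegral.sum _ fun i _ => (hζi.pow _).pow _).mul hδi, ?_⟩
    rw [← mul_assoc, mul_comm (1 - ζ ^ (k + 1)), geom_sum_mul_neg, ← pow_mul,
      ← Nat.mod_add_div ((k + 1) * j) (n' + 1 + 1), hj.2, pow_add, pow_mul, hζ.pow_eq_one, one_pow,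
      mul_one, pow_one, hδ1]
  choose w hwi hw using hinv
  refine not_isIntegral_inv_natCast hr.one_lt ?_
  have hprod : ((n' + 1 + 1 : ℕ) : ℂ) *
      ∏ k ∈ (Finset.range (n' + 1)).attach, w k.1 k.2 = 1 := by
    rw [show ((n' + 1 + 1 : ℕ) : ℂ) = ∏ k ∈ Finset.range (n' + 1), (1 - ζ ^ (k + 1)) by
      rw [hp]; push_cast; rfl, ← Finset.prod_attach (Finset.range (n' + 1)), ← Finset.prod_mul_distrib]
    exact Finset.prod_eq_one fun k _ => hw k.1 k.2
  rw [inv_eq_of_mul_eq_one_right hprod]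
  exact IsIntegral.prod _ fun k _ => hwi k.1 k.2

end Cfsg.Agent.H79.DadeExt
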