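import Cfsg.Agent.H79.DadeExt.Eigen

/-!
# The primitive case: an automorphism of odd prime order without fixed points
-/

set_option autoImplicit false

namespace Cfsg.Agent.H79.DadeExt

open Subgroup

universe u v

theorem apply_pow_eq_self {E : Type u} [Group E] {α : MulAut E} {e : E} (h : α e = e) :
    ∀ n : ℕ, (α ^ n) e = e
  | 0 => by rw [pow_zero, MulAut.one_apply]
  | n + 1 => by rw [pow_succ, MulAut.mul_apply, h, apply_pow_eq_self h n]

theorem idem_hom_mul {d : ℕ} {A A' P : Matrix (Fin d) (Fin d) ℂ} (hP : P * P = P)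
    (h' : Commute A' P) :
    (A * P + (1 - P)) * (A' * P + (1 - P)) = A * A' * P + (1 - P) := by
  rw [add_mul, mul_add, mul_add]
  have h1 : A * P * (A' * P) = A * A' * P := by
    rw [mul_assoc, ← mul_assoc P A' P, ← h'.eq, mul_assoc, hP, mul_assoc]
  have h2 : A * P * (1 - P) = 0 := by rw [mul_sub, mul_one, mul_assoc, hP, sub_self]
  have h3 : (1 - P) * (A' * P) = 0 := by
    rw [sub_mul, one_mul, ← mul_assoc, ← h'.eq, mul_assoc, hP, sub_self]
  have h4 : (1 - P) * (1 - P) = 1 - P := by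
    rw [mul_sub (1 - P), mul_one, sub_mul, one_mul, hP]; simp
  rw [h1, h2, h3, h4]
  abel

set_option maxHeartbeats 1600000 in
theorem good_base {E : Type u} [Group E] [Finite E] {z : E} (hE : Heis E z) {T : Type v} [Group T]
    [Finite T] (hT : IsPGroup 2 T) (φ : T →* MulAut E) (k : MulAut E) {r : ℕ} [hr : Fact r.Prime]
    (hr2 : r ≠ 2) (hkr : k ^ r = 1) (hk1 : k ≠ 1)
    (hnorm : ∀ t, ∃ n : ℕ, φ t * k * (φ t)⁻¹ = k ^ n) (hfix : ∀ e, k e = e → e = 1 ∨ e = z) :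
    Good E z φ := by
  classical
  have : Fact (Nat.Prime 2) := ⟨Nat.prime_two⟩
  obtain ⟨d, ρ, hρz, hcard, hsch, hinter, B, hB⟩ := exists_model hE
  -- the degree
  obtain ⟨nE, hnE⟩ := IsPGroup.iff_card.1 hE.isPGroup
  obtain ⟨i, -, hdi⟩ := (Nat.dvd_prime_pow Nat.prime_two).1
    (show d ∣ 2 ^ nE from hnE ▸ hcard ▸ dvd_mul_left d (2 * d))
  have hd0 : 0 < d := hdi ▸ Nat.two_pow_pos i
  have hi : i ≠ 0 := by
    rintro rfl
    apply hk1
    have htop : zpowers z = ⊤ := by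
      apply Subgroup.eq_top_of_card_eq
      rw [hE.card_zpowers, ← hcard, hdi]; norm_num
    refine MulEquiv.ext fun e => ?_
    rcases hE.mem_zpowers_iff.1 (htop ▸ mem_top e) with rfl | rfl
    · rw [map_one, map_one]
    · rw [hE.map_z, MulAut.one_apply]
  have hr0 : (r : ℂ) ≠ 0 := Nat.cast_ne_zero.2 hr.out.ne_zero
  have hdr : d.Coprime r := by
    rw [hdi]
    exact Nat.Coprime.pow_left i ((Nat.coprime_primes Nat.prime_two hr.out).2 hr2.symm)
  have hord : orderOf k = r := orderOf_eq_prime hkr hk1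
  have hBd : ∀ c : ℂ, c • (B : Matrix (Fin d) (Fin d) ℂ) = B → c = 1 := fun c hc => by
    have hne : (B : Matrix (Fin d) (Fin d) ℂ) ≠ 0 := by
      have : Nonempty (Fin d) := ⟨⟨0, hd0⟩⟩
      exact B.ne_zero
    exact smul_left_injective ℂ hne (hc.trans (one_smul ℂ _).symm)
  -- the canonical operator over `k`
  obtain ⟨KH, hKI, hKr, hKdet⟩ : ∃ KH : (Matrix (Fin d) (Fin d) ℂ)ˣ, Inter ρ k KH ∧ KH ^ r = 1 ∧
      (KH : Matrix (Fin d) (Fin d) ℂ).det = 1 := by
    obtain ⟨U₀, hU₀⟩ := hinter k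
    obtain ⟨a, ha⟩ := (show Inter ρ 1 (U₀ ^ r) from hkr ▸ hU₀.pow r).exists_sc hsch
    obtain ⟨y, hy⟩ := IsAlgClosed.exists_pow_nat_eq (a : ℂ) hr.out.pos
    have hy0 : y ≠ 0 := fun h => a.ne_zero (by rw [← hy, h, zero_pow hr.out.ne_zero])
    have hy' : Units.mk0 y hy0 ^ r = a := Units.ext (by simpa using hy)
    set U₁ := U₀ * sc d (Units.mk0 y hy0)⁻¹ with hU₁def
    have hU₁ : Inter ρ k U₁ := by
      have := hU₀.mul (Inter.sc (ρ := ρ) (Units.mk0 y hy0)⁻¹)
      rwa [mul_one] at this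
    have hU₁r : U₁ ^ r = 1 := by
      rw [hU₁def, (show Commute U₀ (sc d (Units.mk0 y hy0)⁻¹) from (sc_comm _ _).symm).mul_pow, ha,
        ← map_pow, inv_pow, hy', ← map_mul, mul_inv_cancel, map_one]
    set ω : ℂ := (U₁ : Matrix (Fin d) (Fin d) ℂ).det with hω
    have hωr : ω ^ r = 1 := by
      rw [hω, ← Matrix.det_pow, ← Units.val_pow_eq_pow_val, hU₁r, Units.val_one, Matrix.det_one]
    have hω0 : ω ≠ 0 := fun h => zero_ne_one (α := ℂ) (by
      rw [← hωr, h, zero_pow hr.out.ne_zero])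
    obtain ⟨u, -, hu⟩ := Nat.exists_mul_mod_eq_one_of_coprime hdr hr.out.one_lt
    set lam : ℂˣ := (Units.mk0 ω hω0)⁻¹ ^ u with hlam
    refine ⟨U₁ * sc d lam, ?_, ?_, ?_⟩
    · have := hU₁.mul (Inter.sc (ρ := ρ) lam)
      rwa [mul_one] at this
    · rw [(show Commute U₁ (sc d lam) from (sc_comm _ _).symm).mul_pow, hU₁r, one_mul, ← map_pow,
        show lam ^ r = 1 by
          rw [hlam, ← pow_mul, mul_comm, pow_mul, inv_pow, show Units.mk0 ω hω0 ^ r = 1 from
            Units.ext (by simpa using hωr), inv_one, one_pow], map_one]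
    · rw [Units.val_mul, Matrix.det_mul, det_sc, ← hω]
      have hωd : ω ^ (d * u) = ω := by
        rw [← Nat.mod_add_div (d * u) r, hu, pow_add, pow_mul, hωr, one_pow, pow_one, mul_one]
      rw [hlam, ← Units.val_pow_eq_pow_val, ← pow_mul, mul_comm u d, inv_pow,
        Units.val_inv_eq_inv_val, Units.val_pow_eq_pow_val, Units.val_mk0, hωd, mul_inv_cancel₀ hω0]
  set Km : Matrix (Fin d) (Fin d) ℂ := (KH : Matrix (Fin d) (Fin d) ℂ) with hKm
  have hKmr : Km ^ r = 1 := by rw [hKm, ← Units.val_pow_eq_pow_val, hKr, Units.val_one]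
  have huniq : ∀ {α : MulAut E} {U V : (Matrix (Fin d) (Fin d) ℂ)ˣ}, Inter ρ α U → Inter ρ α V →
      U ^ r = 1 → V ^ r = 1 → (U : Matrix (Fin d) (Fin d) ℂ).det = 1 →
      (V : Matrix (Fin d) (Fin d) ℂ).det = 1 → U = V := by
    intro α U V hU hV hUr hVr hUd hVd
    obtain ⟨a, rfl⟩ := hU.exists_eq_mul_sc hsch hV
    rw [(show Commute V (sc d a) from (sc_comm _ _).symm).mul_pow, hVr, one_mul, ← map_pow,
      ← map_one (sc d)] at hUr
    have h1 : a ^ r = 1 := sc_injective hd0 hUr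
    rw [Units.val_mul, Matrix.det_mul, hVd, one_mul, det_sc] at hUd
    have h2 : a ^ d = 1 := Units.ext (by simpa using hUd)
    have h3 := (pow_gcd_eq_one (a := a) (m := d) (n := r)).2 ⟨h2, h1⟩
    rw [hdr.gcd_eq_one, pow_one] at h3
    rw [h3, map_one, mul_one]
  -- the action on `⟨k⟩`
  choose nn hnn using hnorm
  have hkmod : ∀ m n : ℕ, k ^ m = k ^ n ↔ (m : ZMod r) = n := fun m n => by
    rw [pow_eq_pow_iff_modEq, hord, ZMod.natCast_eq_natCast_iff]
  let a : T →* ZMod r :=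
    { toFun := fun t => (nn t : ZMod r)
      map_one' := by
        rw [← Nat.cast_one, ← hkmod, ← hnn, map_one, one_mul, inv_one, mul_one, pow_one]
      map_mul' := fun s t => by
        rw [← Nat.cast_mul, ← hkmod, ← hnn, pow_mul, ← hnn s, conj_pow, ← hnn t, map_mul]
        group }
  let au : T →* (ZMod r)ˣ := a.toHomUnits
  have hau : ∀ t, ((au t : (ZMod r)ˣ) : ZMod r) = a t := fun t => rfl
  have ha0 : ∀ t, a t ≠ 0 := fun t => (au t).ne_zero
  have hconjK : ∀ (t : T) (V : (Matrix (Fin d) (Fin d) ℂ)ˣ), Inter ρ (φ t) V →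
      V * KH * V⁻¹ = KH ^ nn t := by
    intro t V hV
    refine huniq (α := k ^ nn t) ?_ (hKI.pow _) ?_ ?_ ?_ ?_
    · rw [← hnn]; exact (hV.mul hKI).mul hV.inv
    · rw [conj_pow, hKr, mul_one, mul_inv_cancel]
    · rw [← pow_mul, mul_comm, pow_mul, hKr, one_pow]
    · rw [Units.val_mul, Units.val_mul, Matrix.det_mul_right_comm, Units.mul_inv, one_mul, ← hKm,
        hKdet]
    · rw [Units.val_pow_eq_pow_val, Matrix.det_pow, hKdet, one_pow]
  have hkp : ∀ (t : T) (V : (Matrix (Fin d) (Fin d) ℂ)ˣ), Inter ρ (φ t) V → ∀ j : ZMod r,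
      (V : Matrix (Fin d) (Fin d) ℂ) * kp Km j = kp Km (a t * j) * V := by
    intro t V hV j
    have h1 : V * KH ^ j.val * V⁻¹ = KH ^ (nn t * j.val) := by
      rw [← conj_pow, hconjK t V hV, pow_mul]
    rw [mul_inv_eq_iff_eq_mul] at h1
    have h2 := congrArg Units.val h1
    simp only [Units.val_mul, Units.val_pow_eq_pow_val] at h2
    rw [← kp_natCast hKmr (nn t * j.val), Nat.cast_mul, ZMod.natCast_rightInverse] at h2
    exact h2
  have hproj : ∀ (t : T) (V : (Matrix (Fin d) (Fin d) ℂ)ˣ), Inter ρ (φ t) V → ∀ c : ZMod r,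
      (V : Matrix (Fin d) (Fin d) ℂ) * proj Km (c * a t) = proj Km c * V := by
    intro t V hV c
    rw [proj, proj, Matrix.mul_smul, Matrix.smul_mul, Finset.mul_sum, Finset.sum_mul]
    congr 1
    refine Fintype.sum_equiv (Equiv.mulLeft₀ (a t) (ha0 t)) _ _ fun j => ?_
    rw [Matrix.mul_smul, Matrix.smul_mul, hkp t V hV j]
    simp only [Equiv.mulLeft₀_apply, mul_assoc]
  have hcomm : ∀ (t : T) (V : (Matrix (Fin d) (Fin d) ℂ)ˣ), Inter ρ (φ t) V → a t = 1 →
      Commute (V : Matrix (Fin d) (Fin d) ℂ) Km := by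
    intro t V hV h1
    have h2 := hkp t V hV 1
    have h3 : kp Km (1 : ZMod r) = Km := by
      rw [← Nat.cast_one, kp_natCast hKmr, pow_one]
    rwa [h1, one_mul, h3] at h2
  -- forms of the powers of `KH`
  have hKform : ∀ n : ℕ, (Km ^ n).transpose * (B : Matrix (Fin d) (Fin d) ℂ) * Km ^ n = B := by
    obtain ⟨e₀, he₀⟩ := exists_form_scalar hsch hB hKI
    have hp : ∀ n : ℕ, (Km ^ n).transpose * (B : Matrix (Fin d) (Fin d) ℂ) * Km ^ n =
        e₀ ^ n • (B : Matrix (Fin d) (Fin d) ℂ) := by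
      intro n
      induction n with
      | zero => simp
      | succ n ih =>
        calc (Km ^ (n + 1)).transpose * (B : Matrix (Fin d) (Fin d) ℂ) * Km ^ (n + 1)
            = Km.transpose * ((Km ^ n).transpose * (B : Matrix (Fin d) (Fin d) ℂ) * Km ^ n) * Km := by
              rw [pow_succ, Matrix.transpose_mul]; simp only [mul_assoc]
          _ = e₀ ^ (n + 1) • (B : Matrix (Fin d) (Fin d) ℂ) := by
              rw [ih, Matrix.mul_smul, Matrix.smul_mul, he₀, smul_smul, pow_succ]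
    have h1 : e₀ ^ r = 1 := hBd _ (by rw [← hp r, hKmr]; simp)
    have h2 : e₀ ^ d = 1 := by rw [← det_eq_of_form he₀, ← hKm, hKdet, one_pow]
    have h3 := (pow_gcd_eq_one (a := e₀) (m := d) (n := r)).2 ⟨h2, h1⟩
    rw [hdr.gcd_eq_one, pow_one] at h3
    intro n
    rw [hp n, h3, one_pow, one_smul]
  -- constancy of the traces
  have hconst : ∀ (t : T) (U : (Matrix (Fin d) (Fin d) ℂ)ˣ) (s : ℕ), Inter ρ (φ t) U → a t = 1 →
      t ^ (2 ^ s) = 1 → U ^ (2 ^ s) = 1 → ∃ x c : ℂ,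
      (∀ j : ZMod r, j ≠ 0 → ((U : Matrix (Fin d) (Fin d) ℂ) * kp Km j).trace = x) ∧ x ^ 2 = c ∧
      (U : Matrix (Fin d) (Fin d) ℂ).transpose * B * U = c • (B : Matrix (Fin d) (Fin d) ℂ) := by
    intro t U s hU h1 hts hUs
    obtain ⟨c, hc⟩ := exists_form_scalar hsch hB hU
    have hUK := hcomm t U hU h1
    have hcmk : Commute (φ t) k := by
      have : φ t * k * (φ t)⁻¹ = k := by
        rw [hnn, ← pow_one k]
        simp only [pow_one]
        conv_rhs => rw [← pow_one k]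
        exact (hkmod _ _).2 (by rw [Nat.cast_one]; exact h1)
      exact mul_inv_eq_iff_eq_mul.1 this
    have key : ∀ b : ZMod r, b ≠ 0 → ∃ y : ℂ, IsIntegral ℤ y ∧
        ((U : Matrix (Fin d) (Fin d) ℂ) * kp Km b).trace * y = 1 ∧
        ((U : Matrix (Fin d) (Fin d) ℂ) * kp Km b).trace ^ 2 = c := by
      intro b hb
      set X := U * KH ^ b.val with hX
      have hXI : Inter ρ (φ t * k ^ b.val) X := hU.mul (hKI.pow _)
      have hXval : (X : Matrix (Fin d) (Fin d) ℂ) = (U : Matrix (Fin d) (Fin d) ℂ) * kp Km b := by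
        rw [hX, Units.val_mul, Units.val_pow_eq_pow_val]; rfl
      have hg : ∀ e, ((φ t * k ^ b.val) e = e ∨ (φ t * k ^ b.val) e = z * e) → e = 1 ∨ e = z := by
        intro e he
        set g := φ t * k ^ b.val with hgdef
        have h2 : (g * g) e = e := by
          rw [MulAut.mul_apply]
          rcases he with h | h
          · rw [h, h]
          · rw [h, map_mul, hE.map_z, h, ← mul_assoc, hE.z_sq, one_mul]
        have h3 := apply_pow_eq_self h2 (2 ^ s)
        rw [← sq, ← pow_mul, hgdef, (hcmk.pow_right b.val).mul_pow, ← map_pow,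
          show t ^ (2 * 2 ^ s) = 1 by rw [mul_comm, pow_mul, hts, one_pow], map_one, one_mul,
          ← pow_mul] at h3
        have hcop : (b.val * (2 * 2 ^ s)).Coprime (orderOf k) := by
          rw [hord]
          refine Nat.Coprime.mul_left ?_ ?_
          · exact (Nat.coprime_of_lt_prime (fun h => hb ((ZMod.val_eq_zero b).1 h))
              (ZMod.val_lt b) hr.out).symm
          · rw [← pow_succ']
            exact Nat.Coprime.pow_left _ ((Nat.coprime_primes Nat.prime_two hr.out).2 hr2.symm)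
        obtain ⟨m, hm⟩ := exists_pow_eq_self_of_coprime hcop
        refine hfix e ?_
        rw [← hm]
        exact apply_pow_eq_self h3 m
      have h4 := trace_mul_trace_inv hE hsch hρz hcard hXI hg
      have hXform : (X : Matrix (Fin d) (Fin d) ℂ).transpose * B * X =
          c • (B : Matrix (Fin d) (Fin d) ℂ) := by
        rw [hX, Units.val_mul, Units.val_pow_eq_pow_val, Matrix.transpose_mul]
        calc _ = (Km ^ b.val).transpose * ((U : Matrix (Fin d) (Fin d) ℂ).transpose * B * U) *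
              Km ^ b.val := by simp only [mul_assoc, ← hKm]
          _ = _ := by rw [hc, Matrix.mul_smul, Matrix.smul_mul, hKform]
      have h5 := trace_eq_of_form hXform
      have hXN : X⁻¹ ^ (2 ^ s * r) = 1 := by
        have hc' : Commute U (KH ^ b.val) := Commute.pow_right (Units.ext hUK) _
        rw [inv_pow, hX, hc'.mul_pow, pow_mul U, hUs, one_pow, one_mul, ← pow_mul,
          show b.val * (2 ^ s * r) = r * (b.val * 2 ^ s) by ring, pow_mul, hKr, one_pow, inv_one]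
      have hint : IsIntegral ℤ
          ((X⁻¹ : (Matrix (Fin d) (Fin d) ℂ)ˣ) : Matrix (Fin d) (Fin d) ℂ).trace :=
        isIntegral_trace (Nat.mul_pos (Nat.two_pow_pos s) hr.out.pos)
          (by rw [← Units.val_pow_eq_pow_val, hXN, Units.val_one])
      rw [← hXval]
      refine ⟨_, hint, h4, ?_⟩
      rw [sq]
      nth_rewrite 1 [h5]
      rw [mul_assoc, mul_comm _ (X : Matrix (Fin d) (Fin d) ℂ).trace, h4, mul_one]
    obtain ⟨y, hy, hxy, hx1⟩ := key 1 one_ne_zero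
    refine ⟨_, c, fun j hj => ?_, hx1, hc⟩
    obtain ⟨y', -, -, hxj⟩ := key j hj
    exact trace_kp_const hr2 hKmr (Nat.two_pow_pos s)
      (by rw [← Units.val_pow_eq_pow_val, hUs, Units.val_one]) hUK hy hxy hx1 j hxj
  -- the rank of the eigenspaces
  obtain ⟨ε, c₁, hε, hε2, hc₁⟩ := hconst 1 1 0 (by rw [map_one]; exact Inter.one) (map_one a)
    (one_pow _) (one_pow _)
  have hc₁' : c₁ = 1 := hBd _ (by rw [← hc₁]; simp)
  have htrP : ∀ c : ZMod r, c ≠ 0 → (proj Km c).trace = (r : ℂ)⁻¹ * ((d : ℂ) - ε) := by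
    intro c hc
    have h := trace_proj (U := ((1 : (Matrix (Fin d) (Fin d) ℂ)ˣ) : Matrix (Fin d) (Fin d) ℂ)) hε hc
    simpa [Matrix.trace_one] using h
  obtain ⟨m, hm, -⟩ := exists_rank (proj_mul_self hKmr (1 : ZMod r))
  have hm' : (m : ℂ) = (r : ℂ)⁻¹ * ((d : ℂ) - ε) := by rw [← hm, htrP 1 one_ne_zero]
  have hdetP : ∀ c : ZMod r, c ≠ 0 → ∀ y : ℂ,
      (y • proj Km c + (1 - proj Km c)).det = y ^ m := by
    intro c hc
    obtain ⟨m', hm1, hm2⟩ := exists_rank (proj_mul_self hKmr c)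
    have h : m' = m := Nat.cast_injective (R := ℂ) (by rw [← hm1, htrP c hc, ← hm'])
    exact h ▸ hm2
  have hdm : d.Coprime m := by
    have hrm : (r : ℂ) * m = d - ε := by rw [hm', ← mul_assoc, mul_inv_cancel₀ hr0, one_mul]
    have hdeven : Even d := by rw [hdi]; exact Nat.even_pow.2 ⟨even_two, hi⟩
    have hodd : Odd (r * m) := by
      rcases sq_eq_one_iff.1 (hε2.trans hc₁') with h | h
      · have : r * m + 1 = d := by
          apply Nat.cast_injective (R := ℂ); push_cast; rw [hrm, h]; ring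
        rw [← this, Nat.even_add_one, Nat.not_even_iff_odd] at hdeven
        exact hdeven
      · have : r * m = d + 1 := by
          apply Nat.cast_injective (R := ℂ); push_cast; rw [hrm, h]; ring
        rw [this]
        exact hdeven.add_one
    rw [hdi]
    exact Nat.Coprime.pow_left i (Nat.coprime_two_left.2 (Nat.odd_mul.1 hodd).2)
  -- the group of intertwiners
  let Γ : Subgroup (T × (Matrix (Fin d) (Fin d) ℂ)ˣ) :=
    { carrier := {x | Inter ρ (φ x.1) x.2}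
      one_mem' := by
        show Inter ρ (φ (1 : T)) (1 : (Matrix (Fin d) (Fin d) ℂ)ˣ)
        rw [map_one]; exact Inter.one
      mul_mem' := fun {x y} hx hy => by
        show Inter ρ (φ (x.1 * y.1)) (x.2 * y.2)
        rw [map_mul]; exact Inter.mul hx hy
      inv_mem' := fun {x} hx => by
        show Inter ρ (φ x.1⁻¹) x.2⁻¹
        rw [map_inv]; exact Inter.inv hx }
  let π : Γ →* T := (MonoidHom.fst _ _).comp Γ.subtype
  let op : Γ →* (Matrix (Fin d) (Fin d) ℂ)ˣ := (MonoidHom.snd _ _).comp Γ.subtype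
  have hop : ∀ x : Γ, Inter ρ (φ (π x)) (op x) := fun x => x.2
  let Γ₀ : Subgroup Γ := (au.comp π).ker
  have ha1 : ∀ x : Γ₀, a (π (x : Γ)) = 1 := fun x => by
    rw [← hau, show au (π (x : Γ)) = 1 from x.2, Units.val_one]
  have hcomm₀ : ∀ (x : Γ₀) (c : ZMod r),
      Commute ((op (x : Γ) : (Matrix (Fin d) (Fin d) ℂ)ˣ) : Matrix (Fin d) (Fin d) ℂ)
        (proj Km c) :=
    fun x c => commute_proj (hcomm _ _ (hop _) (ha1 x)) c
  let F : ZMod r → (Γ₀ →* ℂ) := fun c =>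
    { toFun := fun x =>
        (((op (x : Γ) : (Matrix (Fin d) (Fin d) ℂ)ˣ) : Matrix (Fin d) (Fin d) ℂ) * proj Km c +
          (1 - proj Km c)).det
      map_one' := by simp
      map_mul' := fun x y => by
        rw [← Matrix.det_mul, idem_hom_mul (proj_mul_self hKmr c) (hcomm₀ y c)]
        rfl }
  have hFeq : ∀ (c : ZMod r), c ≠ 0 → ∀ x : Γ₀, F c x = F 1 x := by
    intro c hc x
    set t := π (x : Γ) with ht
    set U := op (x : Γ) with hUdef
    have hU : Inter ρ (φ t) U := hop _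
    obtain ⟨s, hs⟩ := hT t
    obtain ⟨b, hb⟩ :=
      (show Inter ρ 1 (U ^ 2 ^ s) by
        have := hU.pow (2 ^ s)
        rwa [← map_pow, hs, map_one] at this).exists_sc hsch
    obtain ⟨y, hy⟩ := IsAlgClosed.exists_pow_nat_eq (b : ℂ) (Nat.two_pow_pos s)
    have hy0 : y ≠ 0 := fun h => b.ne_zero (by rw [← hy, h, zero_pow (Nat.two_pow_pos s).ne'])
    set yu := Units.mk0 y hy0
    set U' := U * sc d yu⁻¹ with hU'def
    have hU' : Inter ρ (φ t) U' := by
      have := hU.mul (Inter.sc (ρ := ρ) yu⁻¹)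
      rwa [mul_one] at this
    have hU'N : U' ^ 2 ^ s = 1 := by
      rw [hU'def, (show Commute U (sc d yu⁻¹) from (sc_comm _ _).symm).mul_pow, hb, ← map_pow,
        inv_pow, show yu ^ 2 ^ s = b from Units.ext (by simpa [yu] using hy), ← map_mul,
        mul_inv_cancel, map_one]
    have hUU' : U = U' * sc d yu := by
      rw [hU'def, mul_assoc, ← map_mul, inv_mul_cancel, map_one, mul_one]
    have hW : ∀ c : ZMod r, c ≠ 0 → F c x =
        ((U' : Matrix (Fin d) (Fin d) ℂ) * proj Km c + (1 - proj Km c)).det * y ^ m := by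
      intro c hc
      rw [← hdetP c hc y, ← Matrix.det_mul]
      show (((U : (Matrix (Fin d) (Fin d) ℂ)ˣ) : Matrix (Fin d) (Fin d) ℂ) * proj Km c + _).det = _
      rw [show y • proj Km c = y • (1 : Matrix (Fin d) (Fin d) ℂ) * proj Km c by
        rw [Matrix.smul_mul, one_mul],
        idem_hom_mul (proj_mul_self hKmr c) ((Commute.one_left _).smul_left y), hUU', Units.val_mul,
        val_sc]
      rfl
    rw [hW c hc, hW 1 one_ne_zero]
    congr 1
    have hUN : (U' : Matrix (Fin d) (Fin d) ℂ) ^ 2 ^ s = 1 := by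
      rw [← Units.val_pow_eq_pow_val, hU'N, Units.val_one]
    have hcU : ∀ c : ZMod r, Commute (U' : Matrix (Fin d) (Fin d) ℂ) (proj Km c) := fun c =>
      commute_proj (hcomm t U' hU' (ha1 x)) c
    refine det_eq_of_trace_pow (Nat.two_pow_pos s) ?_ ?_ fun j => ?_
    · rw [idem_hom_pow (proj_mul_self hKmr c) (hcU c), hUN, one_mul, add_sub_cancel]
    · rw [idem_hom_pow (proj_mul_self hKmr _) (hcU _), hUN, one_mul, add_sub_cancel]
    rw [idem_hom_pow (proj_mul_self hKmr c) (hcU c), idem_hom_pow (proj_mul_self hKmr _) (hcU _)]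
    have hts' : (t ^ j) ^ 2 ^ s = 1 := by rw [← pow_mul, mul_comm, pow_mul, hs, one_pow]
    have hUs' : (U' ^ j) ^ 2 ^ s = 1 := by rw [← pow_mul, mul_comm, pow_mul, hU'N, one_pow]
    obtain ⟨xj, cj, hxj, -, -⟩ := hconst (t ^ j) (U' ^ j) s (by rw [map_pow]; exact hU'.pow j)
      (by rw [map_pow, ha1, one_pow]) hts' hUs'
    rw [Units.val_pow_eq_pow_val] at hxj
    simp only [Matrix.trace_add, Matrix.trace_sub, trace_proj hxj hc, trace_proj hxj one_ne_zero,
      htrP c hc, htrP 1 one_ne_zero]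
  let dt : Γ₀ →* ℂ :=
    { toFun := fun x =>
        ((op (x : Γ) : (Matrix (Fin d) (Fin d) ℂ)ˣ) : Matrix (Fin d) (Fin d) ℂ).det
      map_one' := by simp
      map_mul' := fun x y => by rw [← Matrix.det_mul]; rfl }
  let r₀ : Γ₀ →* ℂˣ := (zpowGroupHom (Nat.gcdB d m)).comp (F 1).toHomUnits *
    (zpowGroupHom (Nat.gcdA d m)).comp dt.toHomUnits
  have hscmem : ∀ b : ℂˣ, ((1 : T), sc d b) ∈ Γ := fun b => by
    show Inter ρ (φ 1) (sc d b)
    rw [map_one]
    exact Inter.sc b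
  let scΓ : ℂˣ → Γ := fun b => ⟨((1 : T), sc d b), hscmem b⟩
  have hsc0 : ∀ b, scΓ b ∈ Γ₀ := fun b => by
    show au (π (scΓ b)) = 1
    exact map_one au
  have hr₀sc : ∀ (b : ℂˣ) (h : scΓ b ∈ Γ₀), r₀ ⟨scΓ b, h⟩ = b := by
    intro b h
    have h1 : (F 1).toHomUnits ⟨scΓ b, h⟩ = b ^ m := Units.ext (by
      rw [MonoidHom.coe_toHomUnits, Units.val_pow_eq_pow_val, ← hdetP 1 one_ne_zero (b : ℂ)]
      show (((sc d b : (Matrix (Fin d) (Fin d) ℂ)ˣ) : Matrix (Fin d) (Fin d) ℂ) * _ + _).det = _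
      rw [val_sc, Matrix.smul_mul, one_mul])
    have h2 : dt.toHomUnits ⟨scΓ b, h⟩ = b ^ d := Units.ext (by
      rw [MonoidHom.coe_toHomUnits, Units.val_pow_eq_pow_val]
      exact det_sc b)
    show (zpowGroupHom _ ((F 1).toHomUnits ⟨scΓ b, h⟩)) *
      (zpowGroupHom _ (dt.toHomUnits ⟨scΓ b, h⟩)) = b
    rw [h1, h2, zpowGroupHom_apply, zpowGroupHom_apply, ← zpow_natCast, ← zpow_natCast, ← zpow_mul,
      ← zpow_mul, ← zpow_add, add_comm, ← Nat.gcd_eq_gcd_ab, hdm.gcd_eq_one, Nat.cast_one, zpow_one]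
  have hinv : ∀ (V : Γ) (x : Γ₀) (h : V * (x : Γ) * V⁻¹ ∈ Γ₀),
      r₀ ⟨V * (x : Γ) * V⁻¹, h⟩ = r₀ x := by
    intro V x h
    have h1 : (F 1).toHomUnits ⟨V * (x : Γ) * V⁻¹, h⟩ = (F 1).toHomUnits x := Units.ext (by
      rw [MonoidHom.coe_toHomUnits, MonoidHom.coe_toHomUnits, ← hFeq (a (π V)) (ha0 _) x]
      show (((op (V * (x : Γ) * V⁻¹) : (Matrix (Fin d) (Fin d) ℂ)ˣ) : Matrix (Fin d) (Fin d) ℂ) *
        proj Km 1 + (1 - proj Km 1)).det = _
      rw [map_mul, map_mul, map_inv, Units.val_mul, Units.val_mul]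
      have hp := hproj (π V) (op V) (hop V) 1
      rw [one_mul] at hp
      have hp' : proj Km (1 : ZMod r) =
          (op V : Matrix (Fin d) (Fin d) ℂ) * proj Km (a (π V)) *
            ((op V)⁻¹ : (Matrix (Fin d) (Fin d) ℂ)ˣ) := by
        rw [hp, Units.mul_inv_cancel_right]
      set Vm : Matrix (Fin d) (Fin d) ℂ := (op V : Matrix (Fin d) (Fin d) ℂ)
      set Um : Matrix (Fin d) (Fin d) ℂ := (op (x : Γ) : Matrix (Fin d) (Fin d) ℂ)
      set Vi : Matrix (Fin d) (Fin d) ℂ :=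
        (((op V)⁻¹ : (Matrix (Fin d) (Fin d) ℂ)ˣ) : Matrix (Fin d) (Fin d) ℂ)
      rw [hp', show Vm * Um * Vi * (Vm * proj Km (a (π V)) * Vi) +
          (1 - Vm * proj Km (a (π V)) * Vi) =
          Vm * (Um * proj Km (a (π V)) + (1 - proj Km (a (π V)))) * Vi by
        simp only [mul_add, add_mul, mul_sub, sub_mul, mul_one, Units.mul_inv, mul_assoc,
          Units.inv_mul_cancel_left, Vm, Vi]]
      rw [Matrix.det_mul_right_comm, Units.mul_inv, one_mul]
      rfl)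
    have h2 : dt.toHomUnits ⟨V * (x : Γ) * V⁻¹, h⟩ = dt.toHomUnits x := Units.ext (by
      rw [MonoidHom.coe_toHomUnits, MonoidHom.coe_toHomUnits]
      show ((op (V * (x : Γ) * V⁻¹) : (Matrix (Fin d) (Fin d) ℂ)ˣ) : Matrix (Fin d) (Fin d) ℂ).det = _
      rw [map_mul, map_mul, map_inv, Units.val_mul, Units.val_mul, Matrix.det_mul_right_comm,
        Units.mul_inv, one_mul]
      rfl)
    show (zpowGroupHom _ ((F 1).toHomUnits _)) * (zpowGroupHom _ (dt.toHomUnits _)) = r₀ x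
    rw [h1, h2]
    rfl
  let H₀ : Subgroup Γ := r₀.ker.map Γ₀.subtype
  have hH₀ : H₀.Normal := ⟨by
    rintro _ ⟨x, hx, rfl⟩ V
    exact ⟨⟨V * (x : Γ) * V⁻¹, (inferInstance : Γ₀.Normal).conj_mem x x.2 V⟩,
      MonoidHom.mem_ker.2 ((hinv V x _).trans hx), rfl⟩⟩
  -- the cyclic part
  have hcyc : IsCyclic au.range := inferInstance
  obtain ⟨⟨g₀, τ, rfl⟩, hgen⟩ := hcyc.exists_generator
  obtain ⟨Uτ, hUτ⟩ := hinter (φ τ)
  let x₀ : Γ := ⟨(τ, Uτ), hUτ⟩
  set c₀ := orderOf (au τ) with hc₀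
  have hc₀pos : 0 < c₀ := orderOf_pos _
  have hx₀c : x₀ ^ c₀ ∈ Γ₀ := by
    show au (π (x₀ ^ c₀)) = 1
    rw [map_pow, map_pow]
    exact pow_orderOf_eq_one _
  obtain ⟨y, hy⟩ := IsAlgClosed.exists_pow_nat_eq ((r₀ ⟨_, hx₀c⟩)⁻¹ : ℂˣ).val hc₀pos
  have hy0 : y ≠ 0 := fun h =>
    ((r₀ ⟨_, hx₀c⟩)⁻¹).ne_zero (by rw [← hy, h, zero_pow hc₀pos.ne'])
  set yu := Units.mk0 y hy0
  let x₁ : Γ := scΓ yu * x₀
  have hscmul : ∀ (b : ℂˣ) (n : ℕ), scΓ b ^ n = scΓ (b ^ n) := fun b n =>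
    Subtype.ext (Prod.ext (one_pow n) (map_pow (sc d) b n).symm)
  have hsccomm : ∀ (b : ℂˣ) (w : Γ), scΓ b * w = w * scΓ b := fun b w =>
    Subtype.ext (Prod.ext ((one_mul _).trans (mul_one _).symm) (sc_comm b _))
  have hx₁c : x₁ ^ c₀ ∈ H₀ := by
    have he : x₁ ^ c₀ = scΓ (yu ^ c₀) * x₀ ^ c₀ := by
      rw [(show Commute (scΓ yu) x₀ from hsccomm _ _).mul_pow, hscmul]
    refine ⟨⟨scΓ (yu ^ c₀), hsc0 _⟩ * ⟨x₀ ^ c₀, hx₀c⟩, ?_, he.symm⟩
    show r₀ _ = 1
    rw [map_mul, hr₀sc, show yu ^ c₀ = (r₀ ⟨_, hx₀c⟩)⁻¹ from Units.ext (by simpa [yu] using hy),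
      inv_mul_cancel]
  have hπ1 : π x₁ = τ := one_mul τ
  let H : Subgroup Γ := H₀ ⊔ zpowers x₁
  have hinj : Function.Injective (π.comp H.subtype) := by
    rw [injective_iff_map_eq_one]
    rintro ⟨w, hw⟩ h1
    apply Subtype.ext
    change π w = 1 at h1
    show w = 1
    obtain ⟨h₀, hh₀, p, hp, hwp⟩ := Subgroup.mem_sup_of_normal_left.1 hw
    obtain ⟨j, rfl⟩ := mem_zpowers_iff.1 hp
    obtain ⟨x, hx, rfl⟩ := hh₀
    have h2 : au τ ^ j = 1 := by
      have := congrArg au h1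
      rw [← hwp, map_mul, map_mul, map_one, map_zpow, map_zpow, hπ1,
        show au (π (Γ₀.subtype x)) = 1 from x.2, one_mul] at this
      exact this
    obtain ⟨q, hq⟩ : (c₀ : ℤ) ∣ j := orderOf_dvd_iff_zpow_eq_one.2 h2
    have hw0 : w ∈ H₀ := by
      rw [← hwp, hq, zpow_mul, zpow_natCast]
      exact mul_mem ⟨x, hx, rfl⟩ (zpow_mem hx₁c q)
    obtain ⟨x', hx', rfl⟩ := hw0
    obtain ⟨b, hb⟩ := (show Inter ρ 1 (op ((x' : Γ₀) : Γ)) by
      have := hop ((x' : Γ₀) : Γ)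
      rwa [show π ((x' : Γ₀) : Γ) = 1 from h1, map_one] at this).exists_sc hsch
    have he : ((x' : Γ₀) : Γ) = scΓ b := Subtype.ext (Prod.ext h1 hb)
    have hb1 : b = 1 := by
      rw [← hr₀sc b (he ▸ x'.2), ← hx']
      exact congrArg r₀ (Subtype.ext he.symm)
    show ((x' : Γ₀) : Γ) = 1
    rw [he, hb1]
    exact Subtype.ext (Prod.ext rfl (map_one _))
  have hsurj : Function.Surjective (π.comp H.subtype) := by
    intro t
    obtain ⟨j, hj⟩ := mem_zpowers_iff.1 (hgen ⟨au t, t, rfl⟩)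
    have hj' : au τ ^ j = au t := congrArg Subtype.val hj
    obtain ⟨V, hV⟩ := hinter (φ (t * (τ ^ j)⁻¹))
    let w : Γ := ⟨(t * (τ ^ j)⁻¹, V), hV⟩
    have hw0 : w ∈ Γ₀ := by
      show au (t * (τ ^ j)⁻¹) = 1
      rw [map_mul, map_inv, map_zpow, hj', mul_inv_cancel]
    have hw1 : scΓ (r₀ ⟨w, hw0⟩)⁻¹ * w ∈ H₀ := by
      refine ⟨⟨scΓ (r₀ ⟨w, hw0⟩)⁻¹, hsc0 _⟩ * ⟨w, hw0⟩, ?_, rfl⟩
      show r₀ _ = 1
      rw [map_mul, hr₀sc, inv_mul_cancel]
    refine ⟨⟨_ * x₁ ^ j, mul_mem (mem_sup_left hw1) (mem_sup_right (zpow_mem_zpowers _ j))⟩, ?_⟩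
    show π (scΓ _ * w * x₁ ^ j) = t
    rw [map_mul, map_mul, map_zpow, hπ1]
    show (1 : T) * (t * (τ ^ j)⁻¹) * τ ^ j = t
    group
  let eq := MulEquiv.ofBijective (π.comp H.subtype) ⟨hinj, hsurj⟩
  refine ⟨d, ρ, (Units.coeHom _).comp (op.comp (H.subtype.comp eq.symm.toMonoidHom)), hρz, hcard,
    fun t e => ?_⟩
  have h := hop ((eq.symm t : H) : Γ) e
  rwa [show π ((eq.symm t : H) : Γ) = t from eq.apply_symm_apply t] at h

end Cfsg.Agent.H79.DadeExt
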