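import Mathlib
import Cfsg.Agent.CharBasic.Kernel
import Cfsg.Agent.CharBasic.Equivalence
import Cfsg.Agent.CharBasic.Indicator

/-!
# Representations of groups of symplectic type with a group of automorphisms: basic definitions
-/

set_option autoImplicit false

namespace Cfsg.Agent.H79.DadeExt

open Subgroup

universe u v

/-- `z` is the only nontrivial central element, it is an involution and all squares are central. -/
structure Heis (E : Type u) [Group E] (z : E) : Prop where
  ne_one : z ≠ 1
  z_sq : z * z = 1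
  comm_z : ∀ e, z * e = e * z
  center_cases : ∀ x : E, (∀ y, x * y = y * x) → x = 1 ∨ x = z
  sq_cases : ∀ e : E, e * e = 1 ∨ e * e = z

/-- A representation of dimension `d`, `2 d² = |E|`, in which `z` is `-1` and the action of `T` is
realised by matrices. -/
def Good (E : Type u) [Group E] (z : E) {T : Type v} [Group T] (φ : T →* MulAut E) : Prop :=
  ∃ (n : ℕ) (ρ : E →* Matrix (Fin n) (Fin n) ℂ) (U : T →* Matrix (Fin n) (Fin n) ℂ),
    ρ z = -1 ∧ 2 * n * n = Nat.card E ∧ ∀ t e, U t * ρ e = ρ (φ t e) * U t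

/-- Restriction of an action by automorphisms to an invariant subgroup. -/
def restr {E : Type u} [Group E] {A : Type v} [Group A] (φ : A →* MulAut E) (S : Subgroup E)
    (h : ∀ a, ∀ x ∈ S, φ a x ∈ S) : A →* MulAut S where
  toFun a :=
    { toFun := fun x => ⟨φ a x, h a x x.2⟩
      invFun := fun x => ⟨φ a⁻¹ x, h a⁻¹ x x.2⟩
      left_inv := fun x => Subtype.ext (by
        show φ a⁻¹ (φ a x) = x
        rw [← MulAut.mul_apply, ← map_mul, inv_mul_cancel, map_one, MulAut.one_apply])
      right_inv := fun x => Subtype.ext (by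
        show φ a (φ a⁻¹ x) = x
        rw [← MulAut.mul_apply, ← map_mul, mul_inv_cancel, map_one, MulAut.one_apply])
      map_mul' := fun x y => Subtype.ext (map_mul (φ a) (x : E) y) }
  map_one' := MulEquiv.ext fun x => Subtype.ext (by
    show φ 1 x = x
    rw [map_one, MulAut.one_apply])
  map_mul' a b := MulEquiv.ext fun x => Subtype.ext (by
    show φ (a * b) x = φ a (φ b x)
    rw [map_mul, MulAut.mul_apply])

@[simp] theorem coe_restr {E : Type u} [Group E] {A : Type v} [Group A] (φ : A →* MulAut E)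
    (S : Subgroup E) (h : ∀ a, ∀ x ∈ S, φ a x ∈ S) (a : A) (x : S) :
    ((restr φ S h a x : S) : E) = φ a x := rfl

theorem good_of_index {E : Type u} [Group E] {z : E} {T : Type v} [Group T] {φ : T →* MulAut E}
    {ι : Type*} [Fintype ι] [DecidableEq ι] (ρ : E →* Matrix ι ι ℂ) (U : T →* Matrix ι ι ℂ)
    (hz : ρ z = -1) (hc : 2 * Fintype.card ι * Fintype.card ι = Nat.card E)
    (hU : ∀ t e, U t * ρ e = ρ (φ t e) * U t) : Good E z φ := by
  let e := Matrix.reindexAlgEquiv ℂ ℂ (Fintype.equivFin ι)
  refine ⟨Fintype.card ι, (MonoidHomClass.toMonoidHom e).comp ρ, (MonoidHomClass.toMonoidHom e).comp U,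
    ?_, hc, fun t x => ?_⟩
  · show e (ρ z) = -1
    rw [hz, map_neg, map_one]
  · show e (U t) * e (ρ x) = e (ρ (φ t x)) * e (U t)
    rw [← map_mul, ← map_mul, hU]

namespace Heis

variable {E : Type u} [Group E] {z : E} (hE : Heis E z)
include hE

theorem z_inv : z⁻¹ = z := inv_eq_of_mul_eq_one_right hE.z_sq

theorem mem_center : z ∈ center E := mem_center_iff.2 fun g => (hE.comm_z g).symm

theorem sq_comm (e f : E) : e * e * f = f * (e * e) := by
  rcases hE.sq_cases e with h | h
  · rw [h, one_mul, mul_one]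
  · rw [h, hE.comm_z]

theorem mem_zpowers_iff {x : E} : x ∈ zpowers z ↔ x = 1 ∨ x = z := by
  constructor
  · rintro ⟨i, rfl⟩
    rcases Int.even_or_odd i with ⟨j, rfl⟩ | ⟨j, rfl⟩
    · left
      show z ^ (j + j) = 1
      rw [← two_mul, zpow_mul, zpow_ofNat, sq, hE.z_sq, one_zpow]
    · right
      show z ^ (2 * j + 1) = z
      rw [zpow_add_one, zpow_mul, zpow_ofNat, sq, hE.z_sq, one_zpow, one_mul]
  · rintro (rfl | rfl)
    · exact one_mem _
    · exact Subgroup.mem_zpowers _

theorem card_zpowers : Nat.card (zpowers z) = 2 := by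
  rw [Nat.card_zpowers]
  exact orderOf_eq_prime (by rw [sq, hE.z_sq]) hE.ne_one

theorem conj_cases (x y : E) : x * y * x⁻¹ = y ∨ x * y * x⁻¹ = z * y := by
  have key : x * y * x⁻¹ * y⁻¹ = 1 ∨ x * y * x⁻¹ * y⁻¹ = z := by
    have e : x * y * x⁻¹ * y⁻¹ = (x * y) * (x * y) * ((y * y)⁻¹ * (x * x)⁻¹) := by
      have h2 : x * y * x⁻¹ * y⁻¹ = x * y * x * ((x * x)⁻¹ * (y * (y * y)⁻¹)) := by group
      have h3 : Commute (x * x)⁻¹ (y * (y * y)⁻¹) := Commute.inv_left (hE.sq_comm x _)
      rw [h2, h3.eq]
      simp only [mul_assoc]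
    rw [e]
    have hinv : ∀ a : E, (a * a)⁻¹ = 1 ∨ (a * a)⁻¹ = z := fun a => by
      rcases hE.sq_cases a with h | h <;> simp [h, hE.z_inv]
    rcases hE.sq_cases (x * y) with h | h <;> rcases hinv x with h' | h' <;>
      rcases hinv y with h'' | h'' <;> simp [h, h', h'', hE.z_sq]
  rcases key with h | h
  · left
    rw [mul_inv_eq_one] at h
    exact h
  · right
    rw [← h]
    group

theorem exists_conj_eq {e : E} (h1 : e ≠ 1) (hz : e ≠ z) : ∃ x, x * e * x⁻¹ = z * e := by
  by_contra hne
  push Not at hne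
  rcases hE.center_cases e (fun y => by
    have := (hE.conj_cases y e).resolve_right (hne y)
    rw [mul_inv_eq_iff_eq_mul] at this
    exact this.symm) with h | h
  · exact h1 h
  · exact hz h

theorem map_z (α : MulAut E) : α z = z := by
  rcases hE.center_cases (α z) (fun y => by
    obtain ⟨y, rfl⟩ := α.surjective y
    rw [← map_mul, ← map_mul, hE.comm_z]) with h | h
  · exact absurd (α.injective (h.trans (map_one α).symm)) hE.ne_one
  · exact h

theorem isPGroup : IsPGroup 2 E := fun e => ⟨2, by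
  rw [show (2 : ℕ) ^ 2 = 4 from rfl, show e ^ 4 = (e * e) * (e * e) by simp [pow_succ, mul_assoc]]
  rcases hE.sq_cases e with h | h <;> simp [h, hE.z_sq]⟩

/-- A part of a decomposition into commuting factors inherits the hypotheses. -/
theorem sub {S S' : Subgroup E} (hzS : z ∈ S) (hcomm : ∀ x ∈ S, ∀ y ∈ S', x * y = y * x)
    (htop : S ⊔ S' = ⊤) : Heis S (⟨z, hzS⟩ : S) where
  ne_one h := hE.ne_one (congrArg Subtype.val h)
  z_sq := Subtype.ext hE.z_sq
  comm_z e := Subtype.ext (hE.comm_z e)
  center_cases x hx := by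
    have hle : S ⊔ S' ≤ centralizer {(x : E)} := sup_le
      (fun y hy => mem_centralizer_singleton_iff.2 (congrArg Subtype.val (hx ⟨y, hy⟩)).symm)
      (fun y hy => mem_centralizer_singleton_iff.2 (hcomm x x.2 y hy).symm)
    rw [htop] at hle
    rcases hE.center_cases x (fun y => (mem_centralizer_singleton_iff.1 (hle (mem_top y))).symm)
      with h | h
    · exact Or.inl (Subtype.ext h)
    · exact Or.inr (Subtype.ext h)
  sq_cases e := by
    rcases hE.sq_cases e with h | h
    · exact Or.inl (Subtype.ext h)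
    · exact Or.inr (Subtype.ext h)

/-- The intersection of two commuting generating parts is central. -/
theorem inf_cases {S S' : Subgroup E} (hcomm : ∀ x ∈ S, ∀ y ∈ S', x * y = y * x)
    (htop : S ⊔ S' = ⊤) {x : E} (hx : x ∈ S) (hx' : x ∈ S') : x = 1 ∨ x = z := by
  refine hE.center_cases x fun y => ?_
  have hle : S ⊔ S' ≤ centralizer {x} := sup_le
    (fun y hy => mem_centralizer_singleton_iff.2 (hcomm y hy x hx'))
    (fun y hy => mem_centralizer_singleton_iff.2 (hcomm x hx y hy).symm)
  rw [htop] at hle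
  exact (mem_centralizer_singleton_iff.1 (hle (mem_top y))).symm

end Heis

end Cfsg.Agent.H79.DadeExt
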