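import Cfsg.Agent.H79.DadeExt.Intertwine
import Mathlib.NumberTheory.LegendreSymbol.AddCharacter

/-!
# The eigenspace projections of a matrix of order `r` and the traces twisted by them
-/

set_option autoImplicit false

namespace Cfsg.Agent.H79.DadeExt

variable {d r : ℕ} [hr : Fact r.Prime] {K : Matrix (Fin d) (Fin d) ℂ}

/-- Powers of `K` indexed by `ZMod r`. -/
def kp (K : Matrix (Fin d) (Fin d) ℂ) (j : ZMod r) : Matrix (Fin d) (Fin d) ℂ := K ^ j.val

theorem kp_zero (K : Matrix (Fin d) (Fin d) ℂ) : kp K (0 : ZMod r) = 1 := by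
  rw [kp, ZMod.val_zero, pow_zero]

theorem kp_add (hK : K ^ r = 1) (i j : ZMod r) : kp K (i + j) = kp K i * kp K j := by
  rw [kp, kp, kp, ← pow_add, ZMod.val_add, ← pow_eq_pow_mod _ hK]

theorem kp_natCast (hK : K ^ r = 1) (n : ℕ) : kp K (n : ZMod r) = K ^ n := by
  rw [kp, ZMod.val_natCast, ← pow_eq_pow_mod _ hK]

/-- Projection to an eigenspace of `K`. -/
noncomputable def proj (K : Matrix (Fin d) (Fin d) ℂ) (c : ZMod r) : Matrix (Fin d) (Fin d) ℂ :=
  (r : ℂ)⁻¹ • ∑ j : ZMod r, ZMod.stdAddChar (c * j) • kp K j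

theorem kp_mul_proj (hK : K ^ r = 1) (c i : ZMod r) :
    kp K i * proj K c = ZMod.stdAddChar (-(c * i)) • proj K c := by
  rw [proj, Matrix.mul_smul, Finset.mul_sum,
    smul_comm (ZMod.stdAddChar (-(c * i))) ((r : ℂ)⁻¹)]
  congr 1
  rw [Finset.smul_sum]
  refine Fintype.sum_equiv (Equiv.addLeft i) _ _ fun j => ?_
  rw [Matrix.mul_smul, ← kp_add hK, smul_smul, Equiv.coe_addLeft, ← AddChar.map_add_eq_mul]
  congr 2
  ring

theorem commute_proj {A : Matrix (Fin d) (Fin d) ℂ} (h : Commute A K) (c : ZMod r) :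
    Commute A (proj K c) :=
  (Commute.sum_right _ _ _ fun j _ => (h.pow_right j.val).smul_right _).smul_right _

theorem proj_mul_self (hK : K ^ r = 1) (c : ZMod r) : proj K c * proj K c = proj K c := by
  nth_rewrite 1 [proj]
  rw [Matrix.smul_mul, Finset.sum_mul, Finset.sum_congr rfl fun j _ => by
    rw [Matrix.smul_mul, kp_mul_proj hK, smul_smul, ← AddChar.map_add_eq_mul, add_neg_cancel,
      AddChar.map_zero_eq_one, one_smul],
    Finset.sum_const, Finset.card_univ, ZMod.card, ← Nat.cast_smul_eq_nsmul ℂ, smul_smul,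
    inv_mul_cancel₀ (Nat.cast_ne_zero.2 hr.out.ne_zero), one_smul]

theorem sum_char (b : ZMod r) :
    ∑ c : ZMod r, ZMod.stdAddChar (c * b) = if b = 0 then (r : ℂ) else 0 := by
  rw [AddChar.sum_mulShift b (ZMod.isPrimitive_stdAddChar r), ZMod.card]
  split_ifs <;> simp

theorem kp_eq_sum (K : Matrix (Fin d) (Fin d) ℂ) (b : ZMod r) :
    kp K b = ∑ c : ZMod r, ZMod.stdAddChar (-(c * b)) • proj K c := by
  simp only [proj, smul_comm _ (r : ℂ)⁻¹, ← Finset.smul_sum]
  simp only [Finset.smul_sum (r := ZMod.stdAddChar _), smul_smul, ← AddChar.map_add_eq_mul]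
  rw [Finset.sum_comm]
  simp only [← Finset.sum_smul]
  rw [Finset.sum_congr rfl fun j _ => by
    rw [Finset.sum_congr rfl fun c _ => by
      rw [show -(c * b) + c * j = c * (j - b) by ring], sum_char]]
  simp only [sub_eq_zero, ite_smul, zero_smul, Finset.sum_ite_eq', Finset.mem_univ, if_true,
    smul_smul, inv_mul_cancel₀ (Nat.cast_ne_zero.2 hr.out.ne_zero : (r : ℂ) ≠ 0), one_smul]

omit hr in
theorem idem_hom_pow {A P : Matrix (Fin d) (Fin d) ℂ} (hP : P * P = P) (h : Commute A P) (n : ℕ) :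
    (A * P + (1 - P)) ^ n = A ^ n * P + (1 - P) := by
  induction n with
  | zero => simp
  | succ n ih =>
    rw [pow_succ, ih, pow_succ, add_mul, mul_add, mul_add]
    have h1 : A ^ n * P * (A * P) = A ^ n * A * P := by
      rw [mul_assoc, ← mul_assoc P A P, ← h.eq, mul_assoc, hP, mul_assoc]
    have h2 : A ^ n * P * (1 - P) = 0 := by rw [mul_sub, mul_one, mul_assoc, hP, sub_self]
    have h3 : (1 - P) * (A * P) = 0 := by
      rw [sub_mul, one_mul, ← mul_assoc, ← h.eq, mul_assoc, hP, sub_self]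
    have h4 : (1 - P) * (1 - P) = 1 - P := by
      rw [mul_sub (1 - P), mul_one, sub_mul, one_mul, hP]; simp
    rw [h1, h2, h3, h4]
    abel

/-- The trace of `U Kᵇ` is independent of `b ≠ 0`. -/
theorem trace_kp_const (hr2 : r ≠ 2) (hK : K ^ r = 1) {U : Matrix (Fin d) (Fin d) ℂ} {N : ℕ}
    (hN : 0 < N) (hU : U ^ N = 1) (hUK : Commute U K) {x₁ y : ℂ} (hy : IsIntegral ℤ y)
    (hxy : (U * kp K (1 : ZMod r)).trace * y = 1) (hx₁ : (U * kp K (1 : ZMod r)).trace ^ 2 = x₁)
    (b : ZMod r) (hb : (U * kp K b).trace ^ 2 = x₁) :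
    (U * kp K b).trace = (U * kp K (1 : ZMod r)).trace := by
  rcases sq_eq_sq_iff_eq_or_eq_neg.1 (hb.trans hx₁.symm) with h | h
  · exact h
  exfalso
  set x := (U * kp K (1 : ZMod r)).trace with hx
  have hy' : ∀ c : ZMod r, IsIntegral ℤ (U * proj K c).trace := by
    intro c
    obtain ⟨m, hm, -⟩ := exists_rank (proj_mul_self hK c)
    have hW : (U * proj K c + (1 - proj K c)) ^ N = 1 := by
      rw [idem_hom_pow (proj_mul_self hK c) (commute_proj hUK c), hU, one_mul, add_sub_cancel]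
    have h1 := isIntegral_trace hN hW
    have h2 : (U * proj K c).trace =
        (U * proj K c + (1 - proj K c)).trace - (((d : ℤ) - m : ℤ) : ℂ) := by
      rw [Matrix.trace_add, Matrix.trace_sub, hm, Matrix.trace_one, Fintype.card_fin]
      push_cast
      ring
    rw [h2]
    exact h1.sub isIntegral_algebraMap
  set ζ : ℂ := ZMod.stdAddChar (1 : ZMod r) with hζdef
  have hζ : IsPrimitiveRoot ζ r := by
    refine IsPrimitiveRoot.iff_orderOf.2 (orderOf_eq_prime ?_ ?_)
    · rw [hζdef, ← AddChar.map_nsmul_eq_pow, nsmul_one, ZMod.natCast_self, AddChar.map_zero_eq_one]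
    · rw [hζdef]
      intro h1
      exact one_ne_zero (ZMod.injective_stdAddChar (h1.trans (AddChar.map_zero_eq_one _).symm))
  have hpow : ∀ a : ZMod r, ZMod.stdAddChar a = ζ ^ a.val := fun a => by
    rw [hζdef, ← AddChar.map_nsmul_eq_pow, nsmul_one, ZMod.natCast_rightInverse]
  have hdiv : ∀ a : ZMod r, ∃ w, IsIntegral ℤ w ∧ 1 - ZMod.stdAddChar a = (1 - ζ) * w := fun a =>
    ⟨∑ i ∈ Finset.range a.val, ζ ^ i, IsIntegral.sum _ fun i _ =>
      (hζ.isIntegral hr.out.pos).pow _, by rw [hpow, mul_comm, geom_sum_mul_neg]⟩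
  choose w hwi hw using hdiv
  refine congr_false hr.out (hr.out.odd_of_ne_two hr2) hζ hy hxy
    (γ := ∑ c : ZMod r, (w (-(c * 1)) - w (-(c * b))) * (U * proj K c).trace)
    (IsIntegral.sum _ fun c _ => ((hwi _).sub (hwi _)).mul (hy' c)) ?_
  rw [← h]
  have hsum : ∀ b' : ZMod r, (U * kp K b').trace =
      ∑ c : ZMod r, ZMod.stdAddChar (-(c * b')) * (U * proj K c).trace := fun b' => by
    rw [kp_eq_sum K b', Finset.mul_sum, Matrix.trace_sum]
    simp only [Matrix.mul_smul, Matrix.trace_smul, smul_eq_mul]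
  rw [hsum b, hx, hsum 1, ← Finset.sum_sub_distrib, Finset.mul_sum]
  refine Finset.sum_congr rfl fun c _ => ?_
  rw [← mul_assoc, mul_sub, ← hw, ← hw]
  ring

/-- If the traces of `U Kᵇ` agree for `b ≠ 0`, the traces of `U P` agree for the nontrivial
eigenspace projections `P`. -/
theorem trace_proj {U : Matrix (Fin d) (Fin d) ℂ} {x : ℂ}
    (hx : ∀ j : ZMod r, j ≠ 0 → (U * kp K j).trace = x) {c : ZMod r} (hc : c ≠ 0) :
    (U * proj K c).trace = (r : ℂ)⁻¹ * (U.trace - x) := by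
  classical
  rw [proj, Matrix.mul_smul, Finset.mul_sum, Matrix.trace_smul, Matrix.trace_sum, smul_eq_mul]
  congr 1
  simp only [Matrix.mul_smul, Matrix.trace_smul, smul_eq_mul]
  have h0 : ∑ j : ZMod r, ZMod.stdAddChar (c * j) = 0 := by
    simp only [mul_comm c]
    rw [sum_char, if_neg hc]
  have h1 : ∑ j : ZMod r, ZMod.stdAddChar (c * j) * ((U * kp K j).trace - x) = U.trace - x := by
    rw [Finset.sum_eq_single 0 (fun j _ hj => by rw [hx j hj, sub_self, mul_zero])
      (fun h => absurd (Finset.mem_univ _) h), mul_zero, AddChar.map_zero_eq_one, kp_zero, mul_one,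
      one_mul]
  simp only [mul_sub, Finset.sum_sub_distrib, ← Finset.sum_mul, h0, zero_mul, sub_zero] at h1
  exact h1

end Cfsg.Agent.H79.DadeExt
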