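import Cfsg.Agent.H79.DadeExt.Arith

/-!
# Intertwiners for the irreducible representation of a group of symplectic type
-/

set_option autoImplicit false

namespace Cfsg.Agent.H79.DadeExt

open Subgroup
open scoped ComplexConjugate

universe u

variable {E : Type u} [Group E] [Finite E] {z : E}

/-- The centralizer of the representation consists of scalars. -/
def Schur {d : ℕ} (ρ : E →* Matrix (Fin d) (Fin d) ℂ) : Prop :=
  ∀ X : Matrix (Fin d) (Fin d) ℂ, (∀ e, X * ρ e = ρ e * X) → ∃ c : ℂ, X = c • (1 : Matrix _ _ ℂ)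

/-- `U` intertwines `ρ` with its twist by `α`. -/
def Inter {d : ℕ} (ρ : E →* Matrix (Fin d) (Fin d) ℂ) (α : MulAut E)
    (U : (Matrix (Fin d) (Fin d) ℂ)ˣ) : Prop :=
  ∀ e, (U : Matrix (Fin d) (Fin d) ℂ) * ρ e = ρ (α e) * U

omit [Finite E] in
theorem trace_off (hE : Heis E z) {d : ℕ} (ρ : E →* Matrix (Fin d) (Fin d) ℂ) (hρ : ρ z = -1)
    {e : E} (h1 : e ≠ 1) (hz : e ≠ z) : (ρ e).trace = 0 := by
  obtain ⟨x, hx⟩ := hE.exists_conj_eq h1 hz
  have h := congrArg (fun a => (ρ a).trace) hx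
  simp only [map_mul, hρ, neg_one_mul, Matrix.trace_neg] at h
  rw [Matrix.trace_mul_cycle, ← map_mul, inv_mul_cancel, map_one, one_mul] at h
  exact CharZero.eq_neg_self_iff.1 h

theorem sum_eq_pair [Fintype E] (hE : Heis E z) (f : E → ℂ)
    (h : ∀ e, e ≠ 1 → e ≠ z → f e = 0) : ∑ e, f e = f 1 + f z := by
  classical
  rw [← Finset.sum_pair (Ne.symm hE.ne_one)]
  symm
  refine Finset.sum_subset (Finset.subset_univ _) fun e _ he => ?_
  rw [Finset.mem_insert, Finset.mem_singleton, not_or] at he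
  exact h e he.1 he.2

/-- There is an irreducible representation in which `z` is `-1`. -/
theorem exists_model (hE : Heis E z) :
    ∃ (d : ℕ) (ρ : E →* Matrix (Fin d) (Fin d) ℂ), ρ z = -1 ∧ 2 * d * d = Nat.card E ∧
      Schur ρ ∧ (∀ α : MulAut E, ∃ U, Inter ρ α U) ∧
        ∃ B : (Matrix (Fin d) (Fin d) ℂ)ˣ,
          ∀ e, (ρ e).transpose * (B : Matrix (Fin d) (Fin d) ℂ) * ρ e = B := by
  classical
  cases nonempty_fintype E
  obtain ⟨⟨χ, d, r, hr, rfl⟩, hχ⟩ := CharBasic.exists_irr_ne_of_ne_one hE.ne_one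
  have := hr
  let ρ : E →* Matrix (Fin d) (Fin d) ℂ :=
    { toFun := CharBasic.repMat r
      map_one' := CharBasic.repMat_one r
      map_mul' := CharBasic.repMat_mul r }
  have htr : ∀ e, r.character e = (ρ e).trace := CharBasic.character_eq_trace_repMat r
  have hsch : Schur ρ := by
    intro X hX
    obtain ⟨c, hc⟩ := CharBasic.schur_scalar r (Matrix.toLin' X) fun e => by
      apply LinearMap.toMatrix'.injective
      simp only [Module.End.mul_eq_comp, LinearMap.toMatrix'_comp, LinearMap.toMatrix'_toLin']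
      exact hX e
    refine ⟨c, ?_⟩
    have h := congrArg LinearMap.toMatrix' hc
    rwa [LinearMap.toMatrix'_toLin', map_smul, LinearMap.toMatrix'_id] at h
  have hρz : ρ z = -1 := by
    obtain ⟨c, hc⟩ := hsch (ρ z) fun e => by rw [← map_mul, hE.comm_z, map_mul]
    have h2 : (c * c) • (1 : Matrix (Fin d) (Fin d) ℂ) = ρ (z * z) := by
      rw [map_mul, hc, Matrix.smul_mul, Matrix.mul_smul, smul_smul, mul_one]
    rw [hE.z_sq, map_one] at h2
    rcases Nat.eq_zero_or_pos d with hd | hd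
    · subst hd
      exact Subsingleton.elim _ _
    have h3 : c * c = 1 := by
      have := congrArg (fun A => A ⟨0, hd⟩ ⟨0, hd⟩) h2
      simpa using this
    rcases mul_self_eq_one_iff.1 h3 with h | h
    · exfalso
      apply hχ
      show r.character z = r.character 1
      rw [htr, htr, hc, h, one_smul, map_one]
    · rw [hc, h, neg_one_smul]
  have hoff : ∀ e, e ≠ 1 → e ≠ z → r.character e = 0 := fun e h1 hz => by
    rw [htr]; exact trace_off hE ρ hρz h1 hz
  have hc1 : r.character 1 = d := by rw [htr, map_one, Matrix.trace_one, Fintype.card_fin]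
  have hcz : r.character z = -(d : ℂ) := by
    rw [htr, hρz, Matrix.trace_neg, Matrix.trace_one, Fintype.card_fin]
  have hcard : 2 * d * d = Nat.card E := by
    have h := CharBasic.classInner_irr_self (CharBasic.isIrrCharacter_character r)
    rw [CharBasic.classInner_def, sum_eq_pair hE _ (fun e h1 hz => by rw [hoff e h1 hz, zero_mul]),
      hc1, hcz, map_neg, Complex.conj_natCast,
      inv_mul_eq_one₀ (Nat.cast_ne_zero.2 Nat.card_pos.ne')] at h
    have h' : ((2 * d * d : ℕ) : ℂ) = (Nat.card E : ℂ) := by rw [h]; push_cast; ring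
    exact_mod_cast h'
  have hinter : ∀ α : MulAut E, ∃ U, Inter ρ α U := by
    intro α
    let r' : Representation ℂ E (Fin d → ℂ) := r.comp α.toMonoidHom
    have hch : r.character = r'.character := by
      funext e
      show r.character e = r.character (α e)
      by_cases h1 : e = 1
      · rw [h1, map_one]
      by_cases hz : e = z
      · rw [hz, hE.map_z]
      rw [hoff e h1 hz, hoff (α e) (fun h => h1 (α.injective (h.trans (map_one α).symm)))
        (fun h => hz (α.injective (h.trans (hE.map_z α).symm)))]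
    obtain ⟨L⟩ := CharBasic.nonempty_equiv_of_character_eq r r' hch
    refine ⟨⟨LinearMap.toMatrix' L.toLinearEquiv.toLinearMap,
      LinearMap.toMatrix' L.toLinearEquiv.symm.toLinearMap, ?_, ?_⟩, fun e => ?_⟩
    · rw [← LinearMap.toMatrix'_comp, ← LinearMap.toMatrix'_id]
      exact congrArg LinearMap.toMatrix' (LinearMap.ext fun v => L.toLinearEquiv.apply_symm_apply v)
    · rw [← LinearMap.toMatrix'_comp, ← LinearMap.toMatrix'_id]
      exact congrArg LinearMap.toMatrix' (LinearMap.ext fun v => L.toLinearEquiv.symm_apply_apply v)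
    · show _ * CharBasic.repMat r e = CharBasic.repMat r (α e) * _
      rw [CharBasic.repMat, CharBasic.repMat, ← LinearMap.toMatrix'_comp, ← LinearMap.toMatrix'_comp]
      exact congrArg LinearMap.toMatrix' (L.toIntertwiningMap.isIntertwining' e)
  obtain ⟨B, hB0, hB⟩ := CharBasic.exists_invariant_of_real r fun e => by
    by_cases h1 : e = 1
    · rw [h1, hc1, Complex.natCast_im]
    by_cases hz : e = z
    · rw [hz, hcz, Complex.neg_im, Complex.natCast_im, neg_zero]
    rw [hoff e h1 hz, Complex.zero_im]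
  have hu : IsUnit B.det := isUnit_iff_ne_zero.2 (CharBasic.det_ne_zero_of_invariant r hB hB0)
  exact ⟨d, ρ, hρz, hcard, hsch, hinter, B.nonsingInvUnit hu, hB⟩

section

variable {d : ℕ} {ρ : E →* Matrix (Fin d) (Fin d) ℂ} {α β : MulAut E}
  {U V : (Matrix (Fin d) (Fin d) ℂ)ˣ}

omit [Finite E] in
theorem Inter.one : Inter ρ 1 1 := fun e => by simp

omit [Finite E] in
theorem Inter.mul (hU : Inter ρ α U) (hV : Inter ρ β V) : Inter ρ (α * β) (U * V) := fun e => by
  rw [Units.val_mul, mul_assoc, hV e, ← mul_assoc, hU (β e), mul_assoc, MulAut.mul_apply]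

omit [Finite E] in
theorem Inter.inv (hU : Inter ρ α U) : Inter ρ α⁻¹ U⁻¹ := fun e => by
  rw [Units.inv_mul_eq_iff_eq_mul, ← mul_assoc, hU (α⁻¹ e), MulAut.apply_inv_self,
    Units.mul_inv_cancel_right]

omit [Finite E] in
theorem Inter.pow (hU : Inter ρ α U) (n : ℕ) : Inter ρ (α ^ n) (U ^ n) := by
  induction n with
  | zero => simpa using Inter.one
  | succ n ih => rw [pow_succ, pow_succ]; exact ih.mul hU

/-- The scalar matrices. -/
noncomputable def sc (d : ℕ) : ℂˣ →* (Matrix (Fin d) (Fin d) ℂ)ˣ :=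
  Units.map (algebraMap ℂ (Matrix (Fin d) (Fin d) ℂ)).toMonoidHom

theorem val_sc (a : ℂˣ) :
    ((sc d a : (Matrix (Fin d) (Fin d) ℂ)ˣ) : Matrix (Fin d) (Fin d) ℂ) =
      (a : ℂ) • (1 : Matrix (Fin d) (Fin d) ℂ) :=
  Algebra.algebraMap_eq_smul_one _

theorem sc_comm (a : ℂˣ) (W : (Matrix (Fin d) (Fin d) ℂ)ˣ) : sc d a * W = W * sc d a :=
  Units.ext (Algebra.commutes (a : ℂ) (W : Matrix (Fin d) (Fin d) ℂ))

theorem sc_injective (hd : 0 < d) : Function.Injective (sc d) := fun a b h => by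
  have := congrArg (fun A : (Matrix (Fin d) (Fin d) ℂ)ˣ =>
    (A : Matrix (Fin d) (Fin d) ℂ) ⟨0, hd⟩ ⟨0, hd⟩) h
  simp [val_sc] at this
  exact Units.ext this

omit [Finite E] in
theorem Inter.sc (a : ℂˣ) : Inter ρ 1 (DadeExt.sc d a) := fun e =>
  Algebra.commutes (a : ℂ) (ρ e)

omit [Finite E] in
theorem Inter.exists_sc (hρ : Schur ρ) (hU : Inter ρ 1 U) :
    ∃ a : ℂˣ, U = DadeExt.sc d a := by
  rcases Nat.eq_zero_or_pos d with hd | hd
  · subst hd
    exact ⟨1, Units.ext (Subsingleton.elim _ _)⟩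
  obtain ⟨c, hc⟩ := hρ U hU
  have hc0 : c ≠ 0 := by
    rintro rfl
    have : Nonempty (Fin d) := ⟨⟨0, hd⟩⟩
    rw [zero_smul] at hc
    exact U.ne_zero hc
  exact ⟨Units.mk0 c hc0, Units.ext (by rw [hc, val_sc]; rfl)⟩

omit [Finite E] in
/-- Intertwiners over the same automorphism differ by scalars. -/
theorem Inter.exists_eq_mul_sc (hρ : Schur ρ) (hU : Inter ρ α U) (hV : Inter ρ α V) :
    ∃ a : ℂˣ, U = V * DadeExt.sc d a := by
  have h := hV.inv.mul hU
  rw [inv_mul_cancel] at h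
  obtain ⟨a, ha⟩ := h.exists_sc hρ
  exact ⟨a, by rw [← ha, mul_inv_cancel_left]⟩

theorem det_sc (a : ℂˣ) :
    ((sc d a : (Matrix (Fin d) (Fin d) ℂ)ˣ) : Matrix (Fin d) (Fin d) ℂ).det = (a : ℂ) ^ d := by
  rw [val_sc, Matrix.det_smul, Fintype.card_fin, Matrix.det_one, mul_one]

/-- The averaging identity. -/
theorem trace_mul_trace_inv (hE : Heis E z) (hρ : Schur ρ) (hρz : ρ z = -1)
    (hcard : 2 * d * d = Nat.card E) (hU : Inter ρ α U)
    (hfix : ∀ e, (α e = e ∨ α e = z * e) → e = 1 ∨ e = z) :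
    (U : Matrix (Fin d) (Fin d) ℂ).trace * ((U⁻¹ : (Matrix (Fin d) (Fin d) ℂ)ˣ) :
      Matrix (Fin d) (Fin d) ℂ).trace = 1 := by
  classical
  cases nonempty_fintype E
  set Ui : Matrix (Fin d) (Fin d) ℂ := ((U⁻¹ : (Matrix (Fin d) (Fin d) ℂ)ˣ) : Matrix (Fin d) (Fin d) ℂ)
  set S : Matrix (Fin d) (Fin d) ℂ := ∑ e, ρ e * U * ρ e⁻¹ with hS
  obtain ⟨a, ha⟩ := hρ S fun f => by
    rw [hS, Finset.sum_mul, Finset.mul_sum]
    refine Fintype.sum_equiv (Equiv.mulLeft f⁻¹) _ _ fun e => ?_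
    simp only [Equiv.coe_mulLeft]
    rw [← mul_assoc, ← mul_assoc, ← map_mul, mul_inv_cancel_left, mul_assoc (ρ e * _), ← map_mul,
      mul_inv_rev, inv_inv]
  have hd : (d : ℂ) ≠ 0 := by
    intro h
    have h' : d = 0 := Nat.cast_eq_zero.1 h
    rw [h'] at hcard
    have := Nat.card_pos (α := E)
    omega
  have h1 : a * d = (Nat.card E : ℂ) * (U : Matrix (Fin d) (Fin d) ℂ).trace := by
    have := congrArg Matrix.trace ha
    rw [hS, Matrix.trace_sum, Matrix.trace_smul, Matrix.trace_one, Fintype.card_fin,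
      smul_eq_mul] at this
    rw [← this, Finset.sum_congr rfl (fun e _ => by
      rw [Matrix.trace_mul_cycle, ← map_mul, inv_mul_cancel, map_one, one_mul])]
    rw [Finset.sum_const, Finset.card_univ, nsmul_eq_mul, Nat.card_eq_fintype_card]
  have h2 : a * Ui.trace = 2 * d := by
    have key : S * Ui = ∑ e, ρ (e * α e⁻¹) := by
      rw [hS, Finset.sum_mul]
      refine Finset.sum_congr rfl fun e _ => ?_
      rw [map_mul, mul_assoc (ρ e), hU, mul_assoc, mul_assoc]
      rw [Units.mul_inv, mul_one]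
    have := congrArg Matrix.trace key
    rw [ha, Matrix.smul_mul, one_mul, Matrix.trace_smul, smul_eq_mul, Matrix.trace_sum,
      sum_eq_pair hE _ fun e h1 hz => ?_] at this
    · rw [this, inv_one, map_one, one_mul, map_one, hE.z_inv, hE.map_z, hE.z_sq, map_one,
        Matrix.trace_one, Fintype.card_fin]
      ring
    · have hne : ∀ w : E, w = 1 ∨ w = z → e * α e⁻¹ ≠ w := by
        intro w hw heq
        have h3 : α e = w⁻¹ * e := by
          rw [← heq, mul_inv_rev, map_inv, inv_inv, inv_mul_cancel_right]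
        rcases hw with rfl | rfl
        · rw [inv_one, one_mul] at h3
          exact (hfix e (Or.inl h3)).elim h1 hz
        · rw [hE.z_inv] at h3
          exact (hfix e (Or.inr h3)).elim h1 hz
      exact trace_off hE ρ hρz (hne 1 (Or.inl rfl)) (hne z (Or.inr rfl))
  have hc : (Nat.card E : ℂ) = 2 * d * d := by rw [← hcard]; push_cast; ring
  rw [hc] at h1
  apply mul_left_cancel₀ (mul_ne_zero (mul_ne_zero two_ne_zero hd) hd)
  rw [← mul_assoc, ← h1, mul_one]
  linear_combination (d : ℂ) * h2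

omit [Finite E] in
/-- The invariant form is multiplied by a scalar. -/
theorem exists_form_scalar (hρ : Schur ρ) {B : (Matrix (Fin d) (Fin d) ℂ)ˣ}
    (hB : ∀ e, (ρ e).transpose * (B : Matrix (Fin d) (Fin d) ℂ) * ρ e = B) (hU : Inter ρ α U) :
    ∃ c : ℂ, (U : Matrix (Fin d) (Fin d) ℂ).transpose * B * U =
      c • (B : Matrix (Fin d) (Fin d) ℂ) := by
  set Bm : Matrix (Fin d) (Fin d) ℂ := (B : Matrix (Fin d) (Fin d) ℂ)
  set Bi : Matrix (Fin d) (Fin d) ℂ := ((B⁻¹ : (Matrix (Fin d) (Fin d) ℂ)ˣ) : Matrix (Fin d) (Fin d) ℂ)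
  set C := (U : Matrix (Fin d) (Fin d) ℂ).transpose * Bm * U with hC
  have hCi : ∀ e, (ρ e).transpose * C * ρ e = C := by
    intro e
    calc (ρ e).transpose * C * ρ e
        = ((U : Matrix (Fin d) (Fin d) ℂ) * ρ e).transpose * Bm *
            ((U : Matrix (Fin d) (Fin d) ℂ) * ρ e) := by
          rw [hC, Matrix.transpose_mul]; simp only [mul_assoc]
      _ = (ρ (α e) * (U : Matrix (Fin d) (Fin d) ℂ)).transpose * Bm *
            (ρ (α e) * (U : Matrix (Fin d) (Fin d) ℂ)) := by rw [hU e]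
      _ = (U : Matrix (Fin d) (Fin d) ℂ).transpose * ((ρ (α e)).transpose * Bm * ρ (α e)) * U := by
          rw [Matrix.transpose_mul]; simp only [mul_assoc]
      _ = C := by rw [hB]
  have hinv : ∀ e, (ρ e⁻¹).transpose * (ρ e).transpose = 1 := fun e => by
    rw [← Matrix.transpose_mul, ← map_mul, mul_inv_cancel, map_one, Matrix.transpose_one]
  obtain ⟨c, hc⟩ := hρ (Bi * C) fun e => by
    have h1 : C * ρ e = (ρ e⁻¹).transpose * C := by
      conv_rhs => rw [← hCi e, ← mul_assoc, ← mul_assoc, hinv, one_mul]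
    have h2 : Bm * ρ e = (ρ e⁻¹).transpose * Bm := by
      conv_rhs => rw [← hB e, ← mul_assoc, ← mul_assoc, hinv, one_mul]
    calc Bi * C * ρ e = Bi * ((ρ e⁻¹).transpose * C) := by rw [mul_assoc, h1]
      _ = Bi * ((ρ e⁻¹).transpose * Bm * (Bi * C)) := by
          rw [mul_assoc _ Bm, ← mul_assoc Bm, Units.mul_inv, one_mul]
      _ = ρ e * (Bi * C) := by
          rw [← h2, ← mul_assoc, ← mul_assoc Bi Bm, Units.inv_mul, one_mul]
  refine ⟨c, ?_⟩
  calc C = Bm * (Bi * C) := by rw [← mul_assoc, Units.mul_inv, one_mul]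
    _ = c • Bm := by rw [hc, Matrix.mul_smul, mul_one]

theorem trace_eq_of_form {B : (Matrix (Fin d) (Fin d) ℂ)ˣ} {c : ℂ}
    (hc : (U : Matrix (Fin d) (Fin d) ℂ).transpose * B * U = c • (B : Matrix (Fin d) (Fin d) ℂ)) :
    (U : Matrix (Fin d) (Fin d) ℂ).trace =
      c * ((U⁻¹ : (Matrix (Fin d) (Fin d) ℂ)ˣ) : Matrix (Fin d) (Fin d) ℂ).trace := by
  set Um : Matrix (Fin d) (Fin d) ℂ := (U : Matrix (Fin d) (Fin d) ℂ)
  set Bm : Matrix (Fin d) (Fin d) ℂ := (B : Matrix (Fin d) (Fin d) ℂ)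
  set Ui : Matrix (Fin d) (Fin d) ℂ := ((U⁻¹ : (Matrix (Fin d) (Fin d) ℂ)ˣ) : Matrix (Fin d) (Fin d) ℂ)
  set Bi : Matrix (Fin d) (Fin d) ℂ := ((B⁻¹ : (Matrix (Fin d) (Fin d) ℂ)ˣ) : Matrix (Fin d) (Fin d) ℂ)
  have h : Um.transpose = c • (Bm * Ui * Bi) := by
    calc Um.transpose = Um.transpose * Bm * Um * Ui * Bi := by
          rw [Units.mul_inv_cancel_right, Units.mul_inv_cancel_right]
      _ = c • (Bm * Ui * Bi) := by rw [hc, Matrix.smul_mul, Matrix.smul_mul]
  rw [← Matrix.trace_transpose, h, Matrix.trace_smul, smul_eq_mul, Matrix.trace_mul_cycle,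
    Units.inv_mul, one_mul]

theorem det_eq_of_form {B : (Matrix (Fin d) (Fin d) ℂ)ˣ} {c : ℂ}
    (hc : (U : Matrix (Fin d) (Fin d) ℂ).transpose * B * U = c • (B : Matrix (Fin d) (Fin d) ℂ)) :
    (U : Matrix (Fin d) (Fin d) ℂ).det ^ 2 = c ^ d := by
  have h := congrArg Matrix.det hc
  rw [Matrix.det_mul, Matrix.det_mul, Matrix.det_transpose, Matrix.det_smul, Fintype.card_fin] at h
  have hB : (B : Matrix (Fin d) (Fin d) ℂ).det ≠ 0 :=
    ((Matrix.isUnit_iff_isUnit_det _).1 B.isUnit).ne_zero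
  apply mul_right_cancel₀ hB
  rw [← h]
  ring

end

end Cfsg.Agent.H79.DadeExt
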