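import Cfsg.Agent.H79.DadeExt.Basic

/-!
# Tensor products and tensor induction of representations of groups of symplectic type
-/

set_option autoImplicit false

namespace Cfsg.Agent.H79.DadeExt

open Subgroup
open scoped Kronecker

universe u v

variable {E : Type u} [Group E] [Finite E] {z : E} {T : Type v} [Group T] {φ : T →* MulAut E}

/-- Two invariant commuting parts. -/
theorem good_two (hE : Heis E z) (S₁ S₂ : Subgroup E) (hz₁ : z ∈ S₁) (hz₂ : z ∈ S₂)
    (hcomm : ∀ x ∈ S₁, ∀ y ∈ S₂, x * y = y * x) (htop : S₁ ⊔ S₂ = ⊤)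
    (h₁ : ∀ t, ∀ x ∈ S₁, φ t x ∈ S₁) (h₂ : ∀ t, ∀ x ∈ S₂, φ t x ∈ S₂)
    (g₁ : Good S₁ ⟨z, hz₁⟩ (restr φ S₁ h₁)) (g₂ : Good S₂ ⟨z, hz₂⟩ (restr φ S₂ h₂)) :
    Good E z φ := by
  classical
  obtain ⟨n₁, ρ₁, U₁, hρ₁, hc₁, hU₁⟩ := g₁
  obtain ⟨n₂, ρ₂, U₂, hρ₂, hc₂, hU₂⟩ := g₂
  let P : S₁ × S₂ →* E := MonoidHom.noncommCoprod S₁.subtype S₂.subtype
    (fun x y => hcomm x x.2 y y.2)
  have hP : ∀ p, P p = (p.1 : E) * p.2 := fun p => rfl
  have hsurj : Function.Surjective P := by
    rw [← MonoidHom.range_eq_top, eq_top_iff, ← htop, sup_le_iff]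
    exact ⟨fun x hx => ⟨(⟨x, hx⟩, 1), by simp [hP]⟩, fun x hx => ⟨(1, ⟨x, hx⟩), by simp [hP]⟩⟩
  have hker : ∀ p, P p = 1 → p = 1 ∨ p = (⟨z, hz₁⟩, ⟨z, hz₂⟩) := by
    rintro ⟨a, b⟩ h
    rw [hP] at h
    have hb : (b : E) = (a : E)⁻¹ := (inv_eq_of_mul_eq_one_right h).symm
    rcases hE.inf_cases hcomm htop a.2
        (by rw [show (a : E) = (b : E)⁻¹ by rw [hb, inv_inv]]; exact inv_mem b.2) with ha | ha
    · left
      rw [ha, inv_one] at hb
      exact Prod.ext (Subtype.ext ha) (Subtype.ext hb)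
    · right
      rw [ha, hE.z_inv] at hb
      exact Prod.ext (Subtype.ext ha) (Subtype.ext hb)
  let Φ : S₁ × S₂ →* Matrix (Fin n₁ × Fin n₂) (Fin n₁ × Fin n₂) ℂ :=
    { toFun := fun p => ρ₁ p.1 ⊗ₖ ρ₂ p.2
      map_one' := by simp
      map_mul' := fun p q => by simp [Matrix.mul_kronecker_mul] }
  have hle : P.ker ≤ Φ.ker := by
    intro p hp
    rcases hker p hp with rfl | rfl
    · exact one_mem _
    · rw [MonoidHom.mem_ker]
      show ρ₁ _ ⊗ₖ ρ₂ _ = 1
      rw [hρ₁, hρ₂]
      ext ⟨i, k⟩ ⟨j, l⟩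
      by_cases hi : i = j <;> by_cases hk : k = l <;> simp [Matrix.one_apply, hi, hk]
  have hle' : P.ker ≤ Φ.toHomUnits.ker := fun p hp => MonoidHom.mem_ker.2 (Units.ext (hle hp))
  let ρ := (Units.coeHom _).comp (P.liftOfSurjective hsurj ⟨Φ.toHomUnits, hle'⟩)
  have hρ : ∀ p, ρ (P p) = Φ p := fun p =>
    congrArg Units.val (MonoidHom.liftOfRightInverse_comp_apply P (Function.surjInv hsurj)
      (Function.rightInverse_surjInv hsurj) ⟨Φ.toHomUnits, hle'⟩ p)
  let U : T →* Matrix (Fin n₁ × Fin n₂) (Fin n₁ × Fin n₂) ℂ :=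
    { toFun := fun t => U₁ t ⊗ₖ U₂ t
      map_one' := by simp
      map_mul' := fun s t => by simp [Matrix.mul_kronecker_mul] }
  refine good_of_index ρ U ?_ ?_ fun t e => ?_
  · rw [show z = P (⟨z, hz₁⟩, 1) by simp [hP], hρ]
    show ρ₁ _ ⊗ₖ ρ₂ 1 = -1
    rw [hρ₁, map_one]
    ext ⟨i, k⟩ ⟨j, l⟩
    by_cases hi : i = j <;> by_cases hk : k = l <;> simp [Matrix.one_apply, hi, hk]
  · have hk : Nat.card P.ker = 2 := by
      rw [Nat.card_eq_two_iff]
      refine ⟨⟨1, one_mem _⟩, ⟨(⟨z, hz₁⟩, ⟨z, hz₂⟩), by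
        rw [MonoidHom.mem_ker, hP]; exact hE.z_sq⟩, fun h => hE.ne_one ?_, ?_⟩
      · exact (congrArg (fun p : P.ker => ((p : S₁ × S₂).1 : E)) h).symm
      · rw [Set.eq_univ_iff_forall]
        intro p
        rcases hker p p.2 with h | h
        · exact Or.inl (Subtype.ext h)
        · exact Or.inr (Subtype.ext h)
    have hcard := P.ker.card_eq_card_quotient_mul_card_subgroup
    rw [Nat.card_congr (QuotientGroup.quotientKerEquivOfSurjective P hsurj).toEquiv, hk,
      Nat.card_prod, ← hc₁, ← hc₂] at hcard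
    rw [Fintype.card_prod, Fintype.card_fin, Fintype.card_fin]
    refine Nat.eq_of_mul_eq_mul_right (show 0 < 2 by norm_num) ?_
    rw [← hcard]
    ring
  · obtain ⟨p, rfl⟩ := hsurj e
    have e' : φ t (P p) = P (restr φ S₁ h₁ t p.1, restr φ S₂ h₂ t p.2) := by
      simp [hP]
    rw [e', hρ, hρ]
    show (U₁ t ⊗ₖ U₂ t) * (ρ₁ p.1 ⊗ₖ ρ₂ p.2) = (ρ₁ _ ⊗ₖ ρ₂ _) * (U₁ t ⊗ₖ U₂ t)
    rw [← Matrix.mul_kronecker_mul, ← Matrix.mul_kronecker_mul, hU₁, hU₂]

/-- Parts permuted transitively. -/
theorem good_orbit (hE : Heis E z) {ι : Type*} [Finite ι] [MulAction T ι] (S : ι → Subgroup E)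
    (hzS : ∀ i, z ∈ S i) (hcomm : Pairwise fun i j => ∀ x y, x ∈ S i → y ∈ S j → Commute x y)
    (htop : ⨆ i, S i = ⊤) (hperm : ∀ (t : T) (i : ι), ∀ x ∈ S i, φ t x ∈ S (t • i))
    (o : ι) (htrans : ∀ i, ∃ g : T, g • o = i)
    (hst : ∀ (t : MulAction.stabilizer T o), ∀ x ∈ S o,
      φ.comp (MulAction.stabilizer T o).subtype t x ∈ S o)
    (g₀ : Good (S o) ⟨z, hzS o⟩ (restr (φ.comp (MulAction.stabilizer T o).subtype) (S o) hst)) :
    Good E z φ := by
  classical
  cases nonempty_fintype ι
  obtain ⟨n, ρ₀, U₀, hρ₀, hc₀, hU₀⟩ := g₀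
  choose g hg using htrans
  have hback : ∀ i, ∀ x ∈ S i, φ (g i)⁻¹ x ∈ S o := by
    intro i x hx
    have := hperm (g i)⁻¹ i x hx
    rwa [show (g i)⁻¹ • i = o by rw [inv_smul_eq_iff, hg]] at this
  let σ : ∀ i, S i →* Matrix (Fin n) (Fin n) ℂ := fun i =>
    { toFun := fun x => ρ₀ ⟨φ (g i)⁻¹ x, hback i x x.2⟩
      map_one' := by
        rw [← map_one ρ₀]; congr 1; exact Subtype.ext (map_one _)
      map_mul' := fun x y => by
        rw [← map_mul ρ₀]; congr 1; exact Subtype.ext (map_mul _ _ _) }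
  have hst' : ∀ (t : T) (i : ι), (g (t • i))⁻¹ * t * g i ∈ MulAction.stabilizer T o := by
    intro t i
    rw [MulAction.mem_stabilizer_iff, mul_smul, mul_smul, hg, inv_smul_eq_iff, hg]
  let R : T → ι → Matrix (Fin n) (Fin n) ℂ := fun t i => U₀ ⟨_, hst' t i⟩
  have hRmul : ∀ s t i, R (s * t) i = R s (t • i) * R t i := by
    intro s t i
    show U₀ _ = U₀ _ * U₀ _
    rw [← map_mul]
    congr 1
    apply Subtype.ext
    show (g ((s * t) • i))⁻¹ * (s * t) * g i =
      ((g (s • t • i))⁻¹ * s * g (t • i)) * ((g (t • i))⁻¹ * t * g i)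
    rw [mul_smul]
    group
  have hR1 : ∀ i, R 1 i = 1 := by
    intro i
    show U₀ _ = 1
    rw [← map_one U₀]
    congr 1
    apply Subtype.ext
    show (g ((1 : T) • i))⁻¹ * 1 * g i = 1
    rw [one_smul, mul_one, inv_mul_cancel]
  have hRσ : ∀ (t : T) (i : ι) (x : S i),
      R t i * σ i x = σ (t • i) ⟨φ t x, hperm t i x x.2⟩ * R t i := by
    intro t i x
    show U₀ _ * ρ₀ _ = ρ₀ _ * U₀ _
    rw [hU₀]
    congr 2
    apply Subtype.ext
    show φ ((g (t • i))⁻¹ * t * g i) (φ (g i)⁻¹ x) = φ (g (t • i))⁻¹ (φ t x)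
    rw [← MulAut.mul_apply, ← map_mul, mul_inv_cancel_right, map_mul, MulAut.mul_apply]
  have hprod : ∀ (A B : ι → Matrix (Fin n) (Fin n) ℂ) (p q : ι → Fin n),
      ∑ h : ι → Fin n, (∏ i, A i (p i) (h i)) * ∏ i, B i (h i) (q i) =
        ∏ i, (A i * B i) (p i) (q i) := by
    intro A B p q
    simp only [Matrix.mul_apply, ← Finset.prod_mul_distrib]
    exact (Fintype.prod_sum fun i a => A i (p i) a * B i a (q i)).symm
  let K : (ι → Matrix (Fin n) (Fin n) ℂ) →* Matrix (ι → Fin n) (ι → Fin n) ℂ :=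
    { toFun := fun A => Matrix.of fun p q => ∏ i, A i (p i) (q i)
      map_one' := by
        ext p q
        simp [Matrix.one_apply, Finset.prod_boole, funext_iff]
      map_mul' := fun A B => by
        ext p q
        rw [Matrix.mul_apply]
        exact (hprod A B p q).symm }
  let Φ : (∀ i, S i) →* Matrix (ι → Fin n) (ι → Fin n) ℂ :=
    K.comp
      { toFun := fun e i => σ i (e i)
        map_one' := funext fun i => map_one (σ i)
        map_mul' := fun a b => funext fun i => map_mul (σ i) _ _ }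
  let P : (∀ i, S i) →* E := Subgroup.noncommPiCoprod hcomm
  have hPrange : P.range = ⊤ := by rw [Subgroup.noncommPiCoprod_range, htop]
  have hsurj : Function.Surjective P := MonoidHom.range_eq_top.1 hPrange
  -- the kernel
  have hker : ∀ e, P e = 1 → ∀ i, e i = 1 ∨ (e i : E) = z := by
    intro e he i
    by_cases hz : (e i : E) = z
    · exact Or.inr hz
    left
    apply Subtype.ext
    refine (hE.center_cases (e i : E) fun y => ?_).resolve_right hz
    -- `e i` commutes with every part
    have hone : ∀ j, j ≠ i → ∀ x ∈ S j, Commute (e i : E) x := fun j hj x hx =>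
      (hcomm hj x (e i) hx (e i).2).symm
    have hother : P (Function.update e i 1) = (e i : E)⁻¹ := by
      have h1 : e = Function.update e i 1 * Pi.mulSingle i (e i) := by
        funext j
        rcases eq_or_ne j i with rfl | hj
        · simp
        · simp [hj]
      rw [h1, map_mul, show P (Pi.mulSingle i (e i)) = (e i : E) from
        Subgroup.noncommPiCoprod_mulSingle i (e i)] at he
      exact eq_inv_of_mul_eq_one_left he
    have hsame : ∀ x ∈ S i, Commute (e i : E) x := by
      intro x hx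
      have h2 : Commute (P (Function.update e i 1)) (P (Pi.mulSingle i ⟨x, hx⟩)) := by
        refine Commute.map ?_ P
        refine Pi.commute_iff.2 fun j => ?_
        rcases eq_or_ne j i with rfl | hj
        · simp
        · simp [hj]
      rw [hother, show P (Pi.mulSingle i ⟨x, hx⟩) = x from
        Subgroup.noncommPiCoprod_mulSingle i ⟨x, hx⟩] at h2
      exact (Commute.inv_left_iff).1 h2
    have hall : ⨆ j, S j ≤ centralizer {(e i : E)} := iSup_le fun j x hx => by
      rw [mem_centralizer_singleton_iff]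
      rcases eq_or_ne j i with rfl | hj
      · exact (hsame x hx).eq.symm
      · exact (hone j hj x hx).eq.symm
    rw [htop] at hall
    exact (mem_centralizer_singleton_iff.1 (hall (mem_top y))).symm
  -- values of `σ` on the centre
  have hσz : ∀ i, σ i ⟨z, hzS i⟩ = -1 := by
    intro i
    show ρ₀ _ = -1
    rw [← hρ₀]
    congr 1
    exact Subtype.ext (hE.map_z _)
  let εv : ∀ i, zpowers z →* S i := fun i => Subgroup.inclusion (zpowers_le.2 (hzS i))
  let incl : (ι → zpowers z) →* ∀ i, S i :=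
    MonoidHom.mk' (fun a i => εv i (a i)) fun a b => funext fun i => map_mul (εv i) _ _
  letI : CommGroup (zpowers z) :=
    { (inferInstance : Group (zpowers z)) with
      mul_comm := fun a b => Subtype.ext (by
        rcases hE.mem_zpowers_iff.1 a.2 with h | h <;> simp [h, (hE.comm_z (b : E))]) }
  let mz : (ι → zpowers z) →* zpowers z :=
    { toFun := fun a => ∏ i, a i
      map_one' := Finset.prod_const_one
      map_mul' := fun a b => Finset.prod_mul_distrib }
  have hPincl : P.comp incl = (zpowers z).subtype.comp mz := by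
    refine MonoidHom.pi_ext fun i x => ?_
    show P (incl (Pi.mulSingle i x)) = ((∏ j, (Pi.mulSingle i x : ι → zpowers z) j : zpowers z) : E)
    rw [show incl (Pi.mulSingle i x) = Pi.mulSingle i (εv i x) from funext fun j => by
      rcases eq_or_ne j i with rfl | hj
      · simp [incl]
      · simp [incl, hj], Fintype.prod_pi_mulSingle']
    exact Subgroup.noncommPiCoprod_mulSingle i (εv i x)
  have hincl_inj : Function.Injective incl := by
    intro a b h
    funext i
    have := congrFun h i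
    exact Subgroup.inclusion_injective (zpowers_le.2 (hzS i)) this
  have hkereq : P.ker = mz.ker.map incl := by
    refine le_antisymm (fun e he => ?_) ?_
    · have hez := hker e he
      let a : ι → zpowers z := fun i => ⟨e i, by
        rcases hez i with h | h
        · rw [h]; exact one_mem _
        · rw [h]; exact mem_zpowers z⟩
      have hae : incl a = e := funext fun i => Subtype.ext rfl
      refine ⟨a, ?_, hae⟩
      show mz a = 1
      apply Subtype.ext
      have := DFunLike.congr_fun hPincl a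
      simp only [MonoidHom.comp_apply, Subgroup.coe_subtype, hae] at this
      rw [← this]
      exact he
    · rintro _ ⟨a, ha, rfl⟩
      show P (incl a) = 1
      rw [← MonoidHom.comp_apply, hPincl, MonoidHom.comp_apply, ha, map_one]
  let sgn : zpowers z →* ℂ :=
    { toFun := fun x => if (x : E) = 1 then 1 else -1
      map_one' := if_pos rfl
      map_mul' := fun x y => by
        rcases hE.mem_zpowers_iff.1 x.2 with hx | hx <;>
          rcases hE.mem_zpowers_iff.1 y.2 with hy | hy <;>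
          simp [hx, hy, hE.z_sq, hE.ne_one] }
  have hσsgn : ∀ (i : ι) (x : zpowers z), σ i (εv i x) = sgn x • (1 : Matrix (Fin n) (Fin n) ℂ) := by
    intro i x
    rcases hE.mem_zpowers_iff.1 x.2 with hx | hx
    · rw [show x = 1 from Subtype.ext hx]; simp
    · rw [show εv i x = ⟨z, hzS i⟩ from Subtype.ext hx, hσz]
      have hx1 : x ≠ 1 := fun h => hE.ne_one (by rw [← hx, h]; rfl)
      simp [sgn, hx1]
  have hΦincl : ∀ a, Φ (incl a) = sgn (mz a) • (1 : Matrix (ι → Fin n) (ι → Fin n) ℂ) := by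
    intro a
    ext p q
    show ∏ i, σ i (εv i (a i)) (p i) (q i) = _
    simp only [hσsgn, Matrix.smul_apply, smul_eq_mul, Finset.prod_mul_distrib]
    rw [show mz a = ∏ i, a i from rfl, map_prod]
    simp [Matrix.one_apply, Finset.prod_boole, funext_iff]
  have hle : P.ker ≤ Φ.ker := by
    rw [hkereq]
    rintro _ ⟨a, ha, rfl⟩
    show Φ (incl a) = 1
    rw [hΦincl, ha, map_one, one_smul]
  have hle' : P.ker ≤ Φ.toHomUnits.ker := fun p hp => MonoidHom.mem_ker.2 (Units.ext (hle hp))
  let ρ := (Units.coeHom _).comp (P.liftOfSurjective hsurj ⟨Φ.toHomUnits, hle'⟩)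
  have hρ : ∀ p, ρ (P p) = Φ p := fun p =>
    congrArg Units.val (MonoidHom.liftOfRightInverse_comp_apply P (Function.surjInv hsurj)
      (Function.rightInverse_surjInv hsurj) ⟨Φ.toHomUnits, hle'⟩ p)
  let M : T → Matrix (ι → Fin n) (ι → Fin n) ℂ :=
    fun t => Matrix.of fun p q => ∏ i, R t i (p (t • i)) (q i)
  let U : T →* Matrix (ι → Fin n) (ι → Fin n) ℂ :=
    { toFun := M
      map_one' := by
        ext p q
        simp [M, hR1, Matrix.one_apply, Finset.prod_boole, funext_iff]
      map_mul' := fun s t => by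
        ext p q
        simp only [M, Matrix.mul_apply, Matrix.of_apply]
        simp_rw [← Equiv.prod_comp (MulAction.toPerm t) fun i => R s i (p (s • i)) _]
        simp only [MulAction.toPerm_apply]
        -- reindex the summation variable
        rw [← Equiv.sum_comp ((MulAction.toPerm t).arrowCongr (Equiv.refl (Fin n)))]
        simp only [Equiv.arrowCongr_apply, Equiv.coe_refl, Function.comp_apply, id_eq,
          MulAction.toPerm_symm_apply, inv_smul_smul]
        rw [hprod (fun i => R s (t • i)) (fun i => R t i) (fun i => p (s • t • i)) q]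
        simp only [hRmul, mul_smul] }
  refine good_of_index ρ U ?_ ?_ fun t e => ?_
  · have hz' : z = P (Pi.mulSingle o ⟨z, hzS o⟩) :=
      (Subgroup.noncommPiCoprod_mulSingle o (⟨z, hzS o⟩ : S o)).symm
    let a : ι → zpowers z := Pi.mulSingle o ⟨z, mem_zpowers z⟩
    have ha : incl a = Pi.mulSingle o ⟨z, hzS o⟩ := funext fun j => by
      rcases eq_or_ne j o with rfl | hj
      · apply Subtype.ext; simp [incl, a, εv]
      · simp [incl, a, hj]
    rw [hz', hρ, ← ha, hΦincl, show mz a = ⟨z, mem_zpowers z⟩ from Fintype.prod_pi_mulSingle' o _]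
    simp [sgn, hE.ne_one]
  · have hmzsurj : Function.Surjective mz := fun x => ⟨Pi.mulSingle o x, Fintype.prod_pi_mulSingle' o x⟩
    have h1 := mz.ker.card_eq_card_quotient_mul_card_subgroup
    rw [Nat.card_congr (QuotientGroup.quotientKerEquivOfSurjective mz hmzsurj).toEquiv,
      Nat.card_pi, hE.card_zpowers, Finset.prod_const, Finset.card_univ,
      ← Subgroup.card_map_of_injective hincl_inj, ← hkereq] at h1
    have hcardS : ∀ i, Nat.card (S i) = 2 * n * n := by
      intro i
      rw [hc₀]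
      have hfw : ∀ x ∈ S o, φ (g i) x ∈ S i := fun x hx => by
        have := hperm (g i) o x hx
        rwa [hg] at this
      refine Nat.card_congr
        { toFun := fun x => ⟨φ (g i)⁻¹ x, hback i x x.2⟩
          invFun := fun x => ⟨φ (g i) x, hfw x x.2⟩
          left_inv := fun x => Subtype.ext (by
            show φ (g i) (φ (g i)⁻¹ x) = x
            rw [← MulAut.mul_apply, ← map_mul, mul_inv_cancel, map_one, MulAut.one_apply])
          right_inv := fun x => Subtype.ext (by
            show φ (g i)⁻¹ (φ (g i) x) = x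
            rw [← MulAut.mul_apply, ← map_mul, inv_mul_cancel, map_one, MulAut.one_apply]) }
    have h2 := P.ker.card_eq_card_quotient_mul_card_subgroup
    rw [Nat.card_congr (QuotientGroup.quotientKerEquivOfSurjective P hsurj).toEquiv, Nat.card_pi,
      Finset.prod_congr rfl (fun i _ => hcardS i), Finset.prod_const, Finset.card_univ] at h2
    rw [Fintype.card_fun, Fintype.card_fin]
    refine Nat.eq_of_mul_eq_mul_right (Nat.card_pos (α := P.ker)) ?_
    rw [← h2, mul_pow, mul_pow, h1]
    ring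
  · obtain ⟨a, rfl⟩ := hsurj e
    have hmem : ∀ (b : ∀ i, S i) (j : ι), φ t (b (t⁻¹ • j)) ∈ S j := fun b j => by
      have := hperm t (t⁻¹ • j) _ (b (t⁻¹ • j)).2
      rwa [smul_inv_smul] at this
    let L : (∀ i, S i) →* ∀ i, S i :=
      { toFun := fun b j => ⟨φ t (b (t⁻¹ • j)), hmem b j⟩
        map_one' := funext fun j => Subtype.ext (map_one (φ t))
        map_mul' := fun b c => funext fun j => Subtype.ext (map_mul (φ t) _ _) }
    have hPL : P.comp L = (φ t).toMonoidHom.comp P := by
      refine MonoidHom.pi_ext fun i x => ?_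
      show P (L (Pi.mulSingle i x)) = φ t (P (Pi.mulSingle i x))
      rw [show L (Pi.mulSingle i x) = Pi.mulSingle (t • i) ⟨φ t x, hperm t i x x.2⟩ from
        funext fun j => by
          apply Subtype.ext
          show φ t ((Pi.mulSingle i x : ∀ k, S k) (t⁻¹ • j)) = _
          rcases eq_or_ne j (t • i) with rfl | hj
          · rw [Pi.mulSingle_eq_same]
            have hval : (((Pi.mulSingle i x : ∀ k, S k) (t⁻¹ • t • i)) : E) = (x : E) := by
              rw [inv_smul_smul, Pi.mulSingle_eq_same]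
            rw [hval]
          · rw [Pi.mulSingle_eq_of_ne hj,
              Pi.mulSingle_eq_of_ne (fun h => hj (by rw [← h, smul_inv_smul]))]
            simp]
      rw [show P (Pi.mulSingle i x) = (x : E) from Subgroup.noncommPiCoprod_mulSingle i x]
      exact Subgroup.noncommPiCoprod_mulSingle (t • i) ⟨φ t x, hperm t i x x.2⟩
    rw [show φ t (P a) = P (L a) from (DFunLike.congr_fun hPL a).symm, hρ, hρ]
    show M t * Φ a = Φ (L a) * M t
    have hLa : ∀ i, L a (t • i) = ⟨φ t (a i), hperm t i (a i) (a i).2⟩ := fun i =>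
      Subtype.ext (congrArg (fun j => φ t (a j : E)) (inv_smul_smul t i))
    ext p q
    show ∑ h : ι → Fin n, (∏ i, R t i (p (t • i)) (h i)) * ∏ i, σ i (a i) (h i) (q i) =
      ∑ h : ι → Fin n, (∏ i, σ i (L a i) (p i) (h i)) * ∏ i, R t i (h (t • i)) (q i)
    rw [hprod (fun i => R t i) (fun i => σ i (a i)) (fun i => p (t • i)) q]
    have hre : ∀ h : ι → Fin n, ∏ i, σ i (L a i) (p i) (h i) =
        ∏ i, σ (t • i) (L a (t • i)) (p (t • i)) (h (t • i)) := fun h =>
      (Equiv.prod_comp (MulAction.toPerm t) fun i => σ i (L a i) (p i) (h i)).symm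
    simp only [hre]
    rw [← Equiv.sum_comp ((MulAction.toPerm t).arrowCongr (Equiv.refl (Fin n)))]
    simp only [Equiv.arrowCongr_apply, Equiv.coe_refl, Function.comp_apply, id_eq,
      MulAction.toPerm_symm_apply, inv_smul_smul]
    rw [hprod (fun i => σ (t • i) (L a (t • i))) (fun i => R t i) (fun i => p (t • i)) q]
    simp only [hLa, hRσ]

end Cfsg.Agent.H79.DadeExt
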