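import Cfsg.Agent.H79.DadeExt.Base
import Cfsg.Agent.H79.DadeExt.Tensor
import Cfsg.Agent.Coprime.External
import Cfsg.Agent.S0205

/-!
# Dade's theorem: the 2-group normalising a fixed-point-free group of odd order
-/

set_option autoImplicit false

namespace Cfsg.Agent.H79.DadeExt

open Subgroup

universe u v

variable {E : Type u} [Group E]

/-- The common fixed points of a group of automorphisms. -/
def fixSub (A : Subgroup (MulAut E)) : Subgroup E where
  carrier := {e | ∀ a ∈ A, a e = e}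
  one_mem' := fun a _ => map_one a
  mul_mem' := fun {x y} hx hy a ha => by rw [map_mul, hx a ha, hy a ha]
  inv_mem' := fun {x} hx a ha => by rw [map_inv, hx a ha]

theorem mem_fixSub {A : Subgroup (MulAut E)} {e : E} : e ∈ fixSub A ↔ ∀ a ∈ A, a e = e := Iff.rfl

theorem fixSub_anti {A B : Subgroup (MulAut E)} (h : B ≤ A) : fixSub A ≤ fixSub B :=
  fun _ hx b hb => hx b (h hb)

theorem map_fixSub {A : Subgroup (MulAut E)} (α : MulAut E) :
    (fixSub A).map α.toMonoidHom = fixSub (A.map (MulAut.conj α).toMonoidHom) := by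
  ext x
  constructor
  · rintro ⟨e, he, rfl⟩ _ ⟨a, ha, rfl⟩
    show (α * a * α⁻¹) (α e) = α e
    rw [MulAut.mul_apply, MulAut.mul_apply, MulAut.inv_apply_self, he a ha]
  · intro hx
    refine ⟨α⁻¹ x, fun a ha => ?_, α.apply_symm_apply x⟩
    have h : (α * a * α⁻¹) x = x := hx _ ⟨a, ha, rfl⟩
    rw [MulAut.mul_apply, MulAut.mul_apply] at h
    apply α.injective
    rw [h, MulAut.apply_inv_self]

/-- The subgroup generated by `z` and the `e⁻¹ a(e)`. -/
def movSub (A : Subgroup (MulAut E)) (z : E) : Subgroup E :=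
  closure {y | ∃ e : E, ∃ a ∈ A, y = e⁻¹ * a e} ⊔ zpowers z

variable {z : E}

theorem Heis.mem_fixSub_z (hE : Heis E z) (A : Subgroup (MulAut E)) : z ∈ fixSub A :=
  fun a _ => hE.map_z a

theorem commute_movSub (hE : Heis E z) {A : Subgroup (MulAut E)} {x y : E} (hx : x ∈ fixSub A)
    (hy : y ∈ movSub A z) : x * y = y * x := by
  suffices h : movSub A z ≤ centralizer {x} from (mem_centralizer_singleton_iff.1 (h hy)).symm
  refine sup_le ((closure_le _).2 ?_) (zpowers_le.2 ?_)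
  · rintro _ ⟨e, a, ha, rfl⟩
    rw [SetLike.mem_coe, mem_centralizer_singleton_iff]
    have key : x * (e⁻¹ * a e) * x⁻¹ = e⁻¹ * a e := by
      have hc : ∀ f : E, x * f⁻¹ * x⁻¹ = (x * f * x⁻¹)⁻¹ := fun f => by group
      rcases hE.conj_cases x e with h | h
      · have h' := congrArg a h
        rw [map_mul, map_mul, map_inv, hx a ha] at h'
        calc x * (e⁻¹ * a e) * x⁻¹ = (x * e⁻¹ * x⁻¹) * (x * a e * x⁻¹) := by group
          _ = e⁻¹ * a e := by rw [hc, h, h']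
      · have h' := congrArg a h
        rw [map_mul, map_mul, map_inv, hx a ha, map_mul, hE.map_z] at h'
        calc x * (e⁻¹ * a e) * x⁻¹ = (x * e⁻¹ * x⁻¹) * (x * a e * x⁻¹) := by group
          _ = e⁻¹ * a e := by
              rw [hc, h, h', mul_inv_rev, hE.z_inv, ← mul_assoc, mul_assoc e⁻¹, hE.z_sq, mul_one]
    rw [mul_inv_eq_iff_eq_mul] at key
    exact key.symm
  · rw [mem_centralizer_singleton_iff]
    exact hE.comm_z x

theorem map_movSub (hE : Heis E z) {A : Subgroup (MulAut E)} {α : MulAut E}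
    (h : ∀ a ∈ A, α * a * α⁻¹ ∈ A) {y : E} (hy : y ∈ movSub A z) : α y ∈ movSub A z := by
  have hle : movSub A z ≤ (movSub A z).comap α.toMonoidHom := by
    refine sup_le ((closure_le _).2 ?_) (zpowers_le.2 ?_)
    · rintro _ ⟨e, a, ha, rfl⟩
      refine mem_sup_left (subset_closure ⟨α e, _, h a ha, ?_⟩)
      show α (e⁻¹ * a e) = _
      rw [map_mul, map_inv, MulAut.mul_apply, MulAut.mul_apply, MulAut.inv_apply_self]
    · show α z ∈ movSub A z
      rw [hE.map_z]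
      exact mem_sup_right (mem_zpowers z)
  exact hle hy

theorem map_fix_mem {A : Subgroup (MulAut E)} {α : MulAut E}
    (h : ∀ a ∈ A, α⁻¹ * a * α ∈ A) {y : E} (hy : y ∈ fixSub A) : α y ∈ fixSub A := by
  intro a ha
  have := hy _ (h a ha)
  rw [MulAut.mul_apply, MulAut.mul_apply] at this
  conv_rhs => rw [← this]
  rw [MulAut.apply_inv_self]

section Coprime

variable [Finite E] (hE : Heis E z) {A : Subgroup (MulAut E)} (hA : Odd (Nat.card A))
include hE hA

theorem coprime_card : (Nat.card A).Coprime (Nat.card E) := by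
  have : Fact (Nat.Prime 2) := ⟨Nat.prime_two⟩
  obtain ⟨n, hn⟩ := IsPGroup.iff_card.1 hE.isPGroup
  rw [hn]
  exact (Nat.coprime_two_right.2 hA).pow_right n

theorem solvable_card : Group.IsSolvable A ∨ Group.IsSolvable E := by
  have : Fact (Nat.Prime 2) := ⟨Nat.prime_two⟩
  have := hE.isPGroup.isNilpotent
  exact Or.inr inferInstance

theorem fix_sup_mov : fixSub A ⊔ movSub A z = ⊤ := by
  rw [eq_top_iff, ← Coprime.actionCommutator_sup_fixed (A := A) (G := E) (coprime_card hE hA)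
    (solvable_card hE hA), sup_le_iff]
  refine ⟨(closure_le _).2 ?_, fun x hx => mem_sup_left fun a ha => hx ⟨a, ha⟩⟩
  rintro _ ⟨a, g, rfl⟩
  exact mem_sup_right (mem_sup_left (subset_closure ⟨g, a.1, a.2, rfl⟩))

theorem eq_top_of_cyclic_quotient_le (habel : ∀ a ∈ A, ∀ b ∈ A, a * b = b * a) {M : Subgroup E}
    (hM : ∀ B ≤ A, (∃ a ∈ A, B ⊔ zpowers a = A) → fixSub B ≤ M) : M = ⊤ := by
  classical
  let X := Coprime.Ext ↥A E
  have : IsMulCommutative (Coprime.extA : Subgroup X) := by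
    refine ⟨⟨?_⟩⟩
    rintro ⟨_, a, rfl⟩ ⟨_, b, rfl⟩
    exact Subtype.ext (by
      simp only [Subgroup.coe_mul, ← map_mul, show a * b = b * a from Subtype.ext (habel a a.2 b b.2)])
  have h := Coprime.le_of_centralizer_cyclic_quotient_le (A := (Coprime.extA : Subgroup X))
    (K := (Coprime.extG : Subgroup X)) (M := M.map (SemidirectProduct.inl : E →* X))
    Coprime.extA_le_normalizer_extG (Coprime.ext_coprime (coprime_card hE hA)) (by
      rintro B' hB' ⟨_, ⟨a, rfl⟩, hB⟩ _ ⟨⟨g, rfl⟩, hg⟩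
      refine mem_map_of_mem _ ?_
      set B'' : Subgroup A := B'.comap (SemidirectProduct.inr : A →* X)
      have hB'' : B'' ⊔ zpowers a = ⊤ := by
        apply map_injective (f := (SemidirectProduct.inr : A →* X)) SemidirectProduct.inr_injective
        rw [Subgroup.map_sup, map_comap_eq_self hB', MonoidHom.map_zpowers, hB,
          ← MonoidHom.range_eq_map]
      refine hM (B''.map A.subtype) (map_subtype_le _) ⟨a, a.2, ?_⟩ ?_
      · rw [show zpowers (a : MulAut E) = (zpowers a).map A.subtype from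
          (MonoidHom.map_zpowers A.subtype a).symm, ← Subgroup.map_sup, hB'', ← MonoidHom.range_eq_map,
          Subgroup.range_subtype]
      · rintro _ ⟨b, hb, rfl⟩
        have h1 := (mem_centralizer_iff.1 hg) _ hb
        rw [← mul_inv_eq_iff_eq_mul, Coprime.inr_conj_inl] at h1
        exact SemidirectProduct.inl_injective h1)
  rw [← Coprime.map_top_inl, map_le_map_iff_of_injective SemidirectProduct.inl_injective] at h
  exact top_le_iff.1 h

/-- An element fixed modulo an invariant subgroup lies in it, if all fixed points do. -/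
theorem mem_of_fixed_mod {N : Subgroup E} (hN : ∀ a ∈ A, ∀ w ∈ N, a w ∈ N)
    (hfix : fixSub A ≤ N) {y : E} (hy : ∀ a ∈ A, y⁻¹ * a y ∈ N) : y ∈ N := by
  obtain ⟨c, hc, hyc⟩ := Coprime.exists_fixed_mem_coset (A := A) (G := E) (coprime_card hE hA)
    (solvable_card hE hA) (N := N) (fun a w hw => hN a a.2 w hw) (g := y) (fun a => hy a a.2)
  have hc' : c ∈ N := hfix fun a ha => hc ⟨a, ha⟩
  exact (inv_mem_iff).1 ((mul_mem_cancel_right hc').1 hyc)

end Coprime

/-- Subgroups with cyclic quotient in `A`. -/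
def Hyper (A Q : Subgroup (MulAut E)) : Prop := Q ≤ A ∧ ∃ a ∈ A, a ∉ Q ∧ Q ⊔ zpowers a = A

section Hyper

variable {A : Subgroup (MulAut E)} {r : ℕ}

theorem exists_mul_zpow (habel : ∀ a ∈ A, ∀ b ∈ A, a * b = b * a) {Q Q' : Subgroup (MulAut E)}
    (hQ : Q ≤ A) (hQ' : Q' ≤ A) {x : MulAut E} (hx : x ∈ Q ⊔ Q') :
    ∃ q ∈ Q, ∃ q' ∈ Q', q * q' = x := by
  refine (Coprime.mem_sup_iff ?_).1 hx
  intro b hb
  refine (centralizer_le_normalizer _) (mem_centralizer_iff.2 fun q hq => habel q (hQ hq) b (hQ' hb))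

theorem Hyper.eq_of_lt (hr : r.Prime) (habel : ∀ a ∈ A, ∀ b ∈ A, a * b = b * a)
    (hexp : ∀ a ∈ A, a ^ r = 1) {Q X : Subgroup (MulAut E)} (hQ : Hyper A Q) (hQX : Q ≤ X)
    (hXA : X ≤ A) {x : MulAut E} (hx : x ∈ X) (hxQ : x ∉ Q) : X = A := by
  obtain ⟨hQA, a, ha, haQ, htop⟩ := hQ
  obtain ⟨q, hq, p, hp, rfl⟩ := exists_mul_zpow habel hQA (zpowers_le.2 ha)
    (htop ▸ hXA hx : x ∈ Q ⊔ zpowers a)
  obtain ⟨i, rfl⟩ := mem_zpowers_iff.1 hp
  have hi : a ^ i ∈ X := by simpa using mul_mem (inv_mem (hQX hq)) hx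
  have hni : ¬ (r : ℤ) ∣ i := by
    rintro ⟨j, rfl⟩
    rw [zpow_mul, zpow_natCast, hexp a ha, one_zpow, mul_one] at hxQ
    exact hxQ hq
  obtain ⟨u, v, huv⟩ := ((Nat.prime_iff_prime_int.1 hr).coprime_iff_not_dvd.2 hni)
  have haX : a ∈ X := by
    have : a = (a ^ i) ^ v := by
      rw [← zpow_mul, show i * v = 1 - u * r by linarith, zpow_sub, zpow_one, mul_comm u, zpow_mul,
        zpow_natCast, hexp a ha, one_zpow, inv_one, mul_one]
    rw [this]
    exact zpow_mem hi v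
  exact le_antisymm hXA (htop ▸ sup_le hQX (zpowers_le.2 haX))

theorem Hyper.sup_eq (hr : r.Prime) (habel : ∀ a ∈ A, ∀ b ∈ A, a * b = b * a)
    (hexp : ∀ a ∈ A, a ^ r = 1) {Q Q' : Subgroup (MulAut E)} (hQ : Hyper A Q) (hQ' : Hyper A Q')
    (hne : Q ≠ Q') : Q ⊔ Q' = A := by
  by_cases h : Q' ≤ Q
  · exfalso
    obtain ⟨x, hxQ, hxQ'⟩ : ∃ x ∈ Q, x ∉ Q' := by
      by_contra hc
      push Not at hc
      exact hne (le_antisymm hc h)
    have := hQ'.eq_of_lt hr habel hexp h hQ.1 hxQ hxQ'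
    obtain ⟨a, ha, haQ, -⟩ := hQ.2
    exact haQ (this ▸ ha)
  · obtain ⟨x, hx, hxQ⟩ := SetLike.not_le_iff_exists.1 h
    exact hQ.eq_of_lt hr habel hexp le_sup_left (sup_le hQ.1 hQ'.1) (mem_sup_right hx) hxQ

theorem Hyper.map {Q : Subgroup (MulAut E)} (hQ : Hyper A Q) {α : MulAut E}
    (hα : A.map (MulAut.conj α).toMonoidHom = A) :
    Hyper A (Q.map (MulAut.conj α).toMonoidHom) := by
  obtain ⟨hQA, a, ha, haQ, htop⟩ := hQ
  refine ⟨(map_mono hQA).trans_eq hα, MulAut.conj α a, ?_, fun h => haQ ?_, ?_⟩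
  · rw [← hα]; exact ⟨a, ha, rfl⟩
  · obtain ⟨b, hb, hba⟩ := h
    rwa [(MulAut.conj α).injective hba] at hb
  · rw [show zpowers (MulAut.conj α a) = (zpowers a).map (MulAut.conj α).toMonoidHom from
      (MonoidHom.map_zpowers (MulAut.conj α).toMonoidHom a).symm, ← Subgroup.map_sup, htop, hα]

theorem commute_fix_fix [Finite E] (hE : Heis E z) (hA : Odd (Nat.card A))
    (hr : r.Prime) (habel : ∀ a ∈ A, ∀ b ∈ A, a * b = b * a) (hexp : ∀ a ∈ A, a ^ r = 1)
    (hfix : fixSub A ≤ zpowers z) {Q Q' : Subgroup (MulAut E)} (hQ : Hyper A Q) (hQ' : Hyper A Q')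
    (hne : Q ≠ Q') {x y : E} (hx : x ∈ fixSub Q) (hy : y ∈ fixSub Q') : x * y = y * x := by
  refine commute_movSub hE hx (mem_of_fixed_mod hE hA (fun a ha w hw => map_movSub hE ?_ hw)
    (hfix.trans le_sup_right) fun a ha => ?_)
  · intro q hq
    rwa [habel a ha q (hQ.1 hq), mul_inv_cancel_right]
  · rw [← hQ.sup_eq hr habel hexp hQ' hne] at ha
    obtain ⟨q, hq, q', hq', rfl⟩ := exists_mul_zpow habel hQ.1 hQ'.1 ha
    rw [MulAut.mul_apply, hy q' hq']
    exact mem_sup_left (subset_closure ⟨y, q, hq, rfl⟩)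

end Hyper

theorem map_conj_eq_self [Finite E] {A : Subgroup (MulAut E)} {α : MulAut E}
    (h : ∀ a ∈ A, α * a * α⁻¹ ∈ A) : A.map (MulAut.conj α).toMonoidHom = A := by
  refine Subgroup.eq_of_le_of_card_ge ?_ ?_
  · rintro _ ⟨a, ha, rfl⟩
    exact h a ha
  · rw [Subgroup.card_map_of_injective (MulAut.conj α).injective]

theorem inv_conj_mem [Finite E] {A : Subgroup (MulAut E)} {α : MulAut E}
    (h : ∀ a ∈ A, α * a * α⁻¹ ∈ A) {a : MulAut E} (ha : a ∈ A) : α⁻¹ * a * α ∈ A := by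
  rw [← map_conj_eq_self h] at ha
  obtain ⟨b, hb, rfl⟩ := ha
  have e : α⁻¹ * (MulAut.conj α).toMonoidHom b * α = b := by
    show α⁻¹ * (α * b * α⁻¹) * α = b
    group
  rwa [e]

/-- A nontrivial elementary abelian subgroup normalised by everything normalising `K`. -/
theorem exists_abelian_subgroup [Finite E] (K : Subgroup (MulAut E)) (hK : Odd (Nat.card K))
    (hK1 : K ≠ ⊥) :
    ∃ (A : Subgroup (MulAut E)) (r : ℕ), r.Prime ∧ r ≠ 2 ∧ A ≠ ⊥ ∧ A ≤ K ∧
      (∀ a ∈ A, ∀ b ∈ A, a * b = b * a) ∧ (∀ a ∈ A, a ^ r = 1) ∧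
      ∀ α : MulAut E, (∀ k ∈ K, α * k * α⁻¹ ∈ K) → ∀ a ∈ A, α * a * α⁻¹ ∈ A := by
  classical
  let P : Subgroup (MulAut E) → Prop := fun A => A ≠ ⊥ ∧ A ≤ K ∧
    ∀ α : MulAut E, (∀ k ∈ K, α * k * α⁻¹ ∈ K) → ∀ a ∈ A, α * a * α⁻¹ ∈ A
  obtain ⟨A, ⟨hA1, hAK, hAn⟩, hmin⟩ :=
    wellFounded_lt.has_min {A | P A} ⟨K, hK1, le_rfl, fun α h => h⟩
  have hAodd : Odd (Nat.card A) := hK.of_dvd_nat (Subgroup.card_dvd_of_le hAK)
  have habel : ∀ a ∈ A, ∀ b ∈ A, a * b = b * a := by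
    by_contra hna
    push Not at hna
    obtain ⟨a, ha, b, hb, hab⟩ := hna
    have hC : P ⁅A, A⁆ := by
      refine ⟨fun h => hab (commutatorElement_eq_one_iff_mul_comm.1 ?_),
        (Subgroup.commutator_le_self A).trans hAK, fun α hα c hc => ?_⟩
      · have := Subgroup.commutator_mem_commutator ha hb
        rwa [h, Subgroup.mem_bot] at this
      · have h1 : ⁅A, A⁆.map (MulAut.conj α).toMonoidHom ≤ ⁅A, A⁆ := by
          rw [Subgroup.map_commutator, map_conj_eq_self (hAn α hα)]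
        exact h1 ⟨c, hc, rfl⟩
    have hnlt : ¬ ⁅A, A⁆ < A := hmin _ hC
    have hsol : Group.IsSolvable A := Cfsg.Agent.S0205.result hAodd
    have : Nontrivial A := (Subgroup.nontrivial_iff_ne_bot A).2 hA1
    have hlt := Group.IsSolvable.commutator_lt_top_of_nontrivial A
    apply hnlt
    refine lt_of_le_of_ne (Subgroup.commutator_le_self A) fun heq => hlt.ne ?_
    apply Subgroup.map_injective A.subtype_injective
    rw [commutator_def, Subgroup.map_commutator, ← MonoidHom.range_eq_map, Subgroup.range_subtype,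
      heq]
  have hcardA : Nat.card A ≠ 1 := fun h => hA1 (Subgroup.eq_bot_of_card_eq _ h)
  obtain ⟨r, hr, hrA⟩ := Nat.exists_prime_and_dvd hcardA
  have : Fact r.Prime := ⟨hr⟩
  obtain ⟨x, hx⟩ := exists_prime_orderOf_dvd_card' r hrA
  let A' : Subgroup (MulAut E) :=
    { carrier := {a | a ∈ A ∧ a ^ r = 1}
      one_mem' := ⟨one_mem _, one_pow r⟩
      mul_mem' := fun {a b} ha hb => ⟨mul_mem ha.1 hb.1, by
        rw [(show Commute a b from habel a ha.1 b hb.1).mul_pow, ha.2, hb.2, one_mul]⟩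
      inv_mem' := fun {a} ha => ⟨inv_mem ha.1, by rw [inv_pow, ha.2, inv_one]⟩ }
  have hA' : P A' := by
    refine ⟨fun h => ?_, fun a ha => hAK ha.1, fun α hα a ha => ⟨hAn α hα a ha.1, by
      rw [conj_pow, ha.2, mul_one, mul_inv_cancel]⟩⟩
    have hxA : (x : MulAut E) ∈ A' := ⟨x.2, by
      rw [← Subgroup.coe_pow, ← hx, pow_orderOf_eq_one, Subgroup.coe_one]⟩
    rw [h, Subgroup.mem_bot] at hxA
    rw [show x = 1 from Subtype.ext hxA, orderOf_one] at hx
    exact hr.one_lt.ne hx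
  have heq : A' = A := by
    by_contra hne
    exact hmin _ hA' (lt_of_le_of_ne (fun a ha => ha.1) hne)
  refine ⟨A, r, hr, ?_, hA1, hAK, habel, fun a ha => (heq.symm ▸ ha : a ∈ A').2, hAn⟩
  rintro rfl
  exact (Nat.not_even_iff_odd.2 hAodd) (even_iff_two_dvd.2 hrA)

/-- The statement proved by induction on the order of `E`. -/
theorem good_aux : ∀ (N : ℕ) (E : Type u) [Group E] [Finite E] (z : E), Nat.card E ≤ N → Heis E z →
    ∀ (T : Type v) [Group T] [Finite T], IsPGroup 2 T → ∀ (φ : T →* MulAut E)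
      (K : Subgroup (MulAut E)), Odd (Nat.card K) → (∀ t, ∀ k ∈ K, φ t * k * (φ t)⁻¹ ∈ K) →
      (∀ e, (∀ k ∈ K, k e = e) → e = 1 ∨ e = z) → Good E z φ := by
  intro N
  induction N using Nat.strong_induction_on with
  | _ N ih =>
  intro E _ _ z hN hE T _ _ hT φ K hK hKn hfix
  classical
  -- the inductive hypothesis on a proper invariant part
  have hrec : ∀ (S : Subgroup E) (hzS : z ∈ S), S ≠ ⊤ → Heis S ⟨z, hzS⟩ →
      ∀ (T' : Subgroup T) (hST : ∀ t : T', ∀ x ∈ S, φ.comp T'.subtype t x ∈ S)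
        (L : Subgroup (MulAut E)) (hSL : ∀ a : L, ∀ x ∈ S, L.subtype a x ∈ S),
        Odd (Nat.card L) → (∀ t ∈ T', ∀ a ∈ L, φ t * a * (φ t)⁻¹ ∈ L) →
        (∀ e ∈ S, (∀ a ∈ L, a e = e) → e = 1 ∨ e = z) →
        Good S ⟨z, hzS⟩ (restr (φ.comp T'.subtype) S hST) := by
    intro S hzS hS hES T' hST L hSL hL hLn hLfix
    have hlt : Nat.card S < N := lt_of_lt_of_le
      (lt_of_le_of_ne (Subgroup.card_le_card_group S) fun h => hS (Subgroup.eq_top_of_card_eq S h)) hN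
    refine ih _ hlt S _ le_rfl hES T' (hT.to_subgroup T') _ (restr L.subtype S hSL).range
      (hL.of_dvd_nat (Subgroup.card_range_dvd _)) ?_ ?_
    · rintro t _ ⟨a, rfl⟩
      refine ⟨⟨φ t * a * (φ t)⁻¹, hLn t t.2 a a.2⟩, MulEquiv.ext fun x => Subtype.ext ?_⟩
      simp only [coe_restr, Subgroup.coe_subtype, MulAut.mul_apply, ← map_inv]
      rfl
    · intro e he
      rcases hLfix e e.2 (fun a ha => congrArg Subtype.val (he _ ⟨⟨a, ha⟩, rfl⟩)) with h | h
      · exact Or.inl (Subtype.ext h)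
      · exact Or.inr (Subtype.ext h)
  -- two invariant parts
  have htwo : ∀ (S₁ S₂ : Subgroup E) (L : Subgroup (MulAut E)), z ∈ S₁ → z ∈ S₂ → S₁ ≠ ⊤ → S₂ ≠ ⊤ →
      (∀ x ∈ S₁, ∀ y ∈ S₂, x * y = y * x) → S₁ ⊔ S₂ = ⊤ →
      (∀ t, ∀ x ∈ S₁, φ t x ∈ S₁) → (∀ t, ∀ x ∈ S₂, φ t x ∈ S₂) →
      (∀ a ∈ L, ∀ x ∈ S₁, a x ∈ S₁) → (∀ a ∈ L, ∀ x ∈ S₂, a x ∈ S₂) →
      Odd (Nat.card L) → (∀ t, ∀ a ∈ L, φ t * a * (φ t)⁻¹ ∈ L) →
      (∀ e, (∀ a ∈ L, a e = e) → e = 1 ∨ e = z) → Good E z φ := by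
    intro S₁ S₂ L hz₁ hz₂ hn₁ hn₂ hcomm htop ht₁ ht₂ hl₁ hl₂ hL hLn hLfix
    have hc₂ : ∀ x ∈ S₂, ∀ y ∈ S₁, x * y = y * x := fun x hx y hy => (hcomm y hy x hx).symm
    have g₁ := hrec S₁ hz₁ hn₁ (hE.sub hz₁ hcomm htop) ⊤ (fun t x hx => ht₁ t x hx) L
      (fun a x hx => hl₁ a a.2 x hx) hL (fun t _ a ha => hLn t a ha) (fun e _ h => hLfix e h)
    have g₂ := hrec S₂ hz₂ hn₂ (hE.sub hz₂ hc₂ (by rw [sup_comm, htop])) ⊤
      (fun t x hx => ht₂ t x hx) L (fun a x hx => hl₂ a a.2 x hx) hL (fun t _ a ha => hLn t a ha)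
      (fun e _ h => hLfix e h)
    refine good_two hE S₁ S₂ hz₁ hz₂ hcomm htop ht₁ ht₂ ?_ ?_
    · obtain ⟨n, ρ, U, h1, h2, h3⟩ := g₁
      exact ⟨n, ρ, U.comp (Subgroup.topEquiv : (⊤ : Subgroup T) ≃* T).symm.toMonoidHom, h1, h2,
        fun t e => h3 ⟨t, mem_top t⟩ e⟩
    · obtain ⟨n, ρ, U, h1, h2, h3⟩ := g₂
      exact ⟨n, ρ, U.comp (Subgroup.topEquiv : (⊤ : Subgroup T) ≃* T).symm.toMonoidHom, h1, h2,
        fun t e => h3 ⟨t, mem_top t⟩ e⟩
  by_cases hK1 : K = ⊥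
  · have hall : ∀ e : E, e = 1 ∨ e = z := fun e => hfix e fun k hk => by
      rw [hK1, Subgroup.mem_bot] at hk
      rw [hk, MulAut.one_apply]
    let ρ : E →* Matrix (Fin 1) (Fin 1) ℂ :=
      { toFun := fun e => if e = 1 then 1 else -1
        map_one' := if_pos rfl
        map_mul' := fun x y => by
          rcases hall x with rfl | rfl <;> rcases hall y with rfl | rfl <;>
            simp [hE.z_sq, hE.ne_one] }
    refine ⟨1, ρ, 1, if_neg hE.ne_one, ?_, fun t e => ?_⟩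
    · rw [← hE.card_zpowers, show zpowers z = ⊤ from
        eq_top_iff.2 fun e _ => hE.mem_zpowers_iff.2 (hall e), Subgroup.card_top, mul_one, mul_one]
    · rcases hall e with rfl | rfl <;> simp [hE.map_z]
  obtain ⟨A, r, hr, hr2, hA1, hAK, habel, hexp, hAn⟩ := exists_abelian_subgroup K hK hK1
  have hA : Odd (Nat.card A) := hK.of_dvd_nat (Subgroup.card_dvd_of_le hAK)
  have hAt : ∀ t, ∀ a ∈ A, φ t * a * (φ t)⁻¹ ∈ A := fun t => hAn _ (hKn t)
  have hAk : ∀ k ∈ K, ∀ a ∈ A, k * a * k⁻¹ ∈ A := fun k hk =>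
    hAn _ fun l hl => mul_mem (mul_mem hk hl) (inv_mem hk)
  by_cases hA0 : fixSub A ≤ zpowers z
  swap
  · refine htwo (fixSub A) (movSub A z) K (hE.mem_fixSub_z A) (mem_sup_right (mem_zpowers z))
      (fun h => hA1 ?_) (fun h => hA0 ?_) (fun x hx y hy => commute_movSub hE hx hy)
      (fix_sup_mov hE hA) (fun t x hx => map_fix_mem (fun a ha => inv_conj_mem (hAt t) ha) hx)
      (fun t x hx => map_movSub hE (hAt t) hx)
      (fun k hk x hx => map_fix_mem (fun a ha => inv_conj_mem (hAk k hk) ha) hx)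
      (fun k hk x hx => map_movSub hE (hAk k hk) hx) hK hKn hfix
    · rw [Subgroup.eq_bot_iff_forall]
      intro a ha
      exact MulEquiv.ext fun e => (h ▸ mem_top e : e ∈ fixSub A) a ha
    · intro x hx
      exact hE.mem_zpowers_iff.2 (hE.center_cases x fun y =>
        commute_movSub hE hx (h ▸ mem_top y : y ∈ movSub A z))
  have hAfix : ∀ e, (∀ a ∈ A, a e = e) → e = 1 ∨ e = z := fun e he =>
    hE.mem_zpowers_iff.1 (hA0 he)
  by_cases hcyc : ∃ k ∈ A, A = zpowers k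
  · obtain ⟨k, hkA, hAk'⟩ := hcyc
    have : Fact r.Prime := ⟨hr⟩
    have hk1 : k ≠ 1 := fun h => hA1 (by rw [hAk', h, Subgroup.zpowers_one_eq_bot])
    refine good_base hE hT φ k hr2 (hexp k hkA) hk1 (fun t => ?_) fun e he => hAfix e fun a ha => ?_
    · have h1 : φ t * k * (φ t)⁻¹ ∈ zpowers k := hAk' ▸ hAt t k hkA
      obtain ⟨n, hn⟩ := (isOfFinOrder_of_finite k).mem_powers_iff_mem_zpowers.2 h1
      exact ⟨n, hn.symm⟩
    · rw [hAk'] at ha
      obtain ⟨n, rfl⟩ := (isOfFinOrder_of_finite k).mem_powers_iff_mem_zpowers.2 ha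
      exact apply_pow_eq_self he n
  push Not at hcyc
  -- the hyperplanes
  have hgen : ∀ M : Subgroup E, z ∈ M → (∀ Q, Hyper A Q → fixSub Q ≤ M) → M = ⊤ := by
    intro M hzM hM
    refine eq_top_of_cyclic_quotient_le hE hA habel fun B hB ⟨a, ha, htop⟩ => ?_
    by_cases haB : a ∈ B
    · have : B = A := le_antisymm hB (htop ▸ sup_le le_rfl (zpowers_le.2 haB))
      rw [this]
      exact hA0.trans (zpowers_le.2 hzM)
    · exact hM B ⟨hB, a, ha, haB, htop⟩
  obtain ⟨Q₀, hQ₀, hQ₀fix⟩ : ∃ Q, Hyper A Q ∧ ¬ fixSub Q ≤ zpowers z := by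
    by_contra hc
    push Not at hc
    have htop := hgen (zpowers z) (mem_zpowers z) hc
    apply hA1
    rw [Subgroup.eq_bot_iff_forall]
    intro a _
    refine MulEquiv.ext fun e => ?_
    rcases hE.mem_zpowers_iff.1 (htop ▸ mem_top e) with rfl | rfl
    · rw [map_one, map_one]
    · rw [hE.map_z, MulAut.one_apply]
  let ι : Type u := {S : Subgroup E // ∃ t : T, S = (fixSub Q₀).map (φ t).toMonoidHom}
  let act : MulAction T ι :=
    { smul := fun t S => ⟨S.1.map (φ t).toMonoidHom, by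
        obtain ⟨s, hs⟩ := S.2
        refine ⟨t * s, ?_⟩
        rw [hs, Subgroup.map_map, map_mul]
        rfl⟩
      one_smul := fun S => Subtype.ext (by
        show S.1.map (φ 1).toMonoidHom = S.1
        rw [map_one]; exact Subgroup.map_id S.1)
      mul_smul := fun s t S => Subtype.ext (by
        show S.1.map (φ (s * t)).toMonoidHom = (S.1.map (φ t).toMonoidHom).map (φ s).toMonoidHom
        rw [Subgroup.map_map, map_mul]; rfl) }
  have hmem : ∀ S : ι, ∃ Q, Hyper A Q ∧ fixSub Q = S.1 := fun ⟨S, t, hS⟩ =>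
    ⟨_, hQ₀.map (map_conj_eq_self (hAt t)), by rw [← map_fixSub]; exact hS.symm⟩
  have hz : ∀ S : ι, z ∈ S.1 := fun S => by
    obtain ⟨Q, -, hQ⟩ := hmem S
    rw [← hQ]; exact hE.mem_fixSub_z Q
  have hinvA : ∀ Q, Hyper A Q → ∀ a ∈ A, ∀ x ∈ fixSub Q, a x ∈ fixSub Q := fun Q hQ a ha x hx =>
    map_fix_mem (fun q hq => by
      have h1 : a⁻¹ * q * a = q := by
        rw [mul_assoc, ← habel a ha q (hQ.1 hq), inv_mul_cancel_left]
      rwa [h1]) hx
  let E₁ : Subgroup E := ⨆ S : ι, S.1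
  let E₂ : Subgroup E :=
    (⨆ Q ∈ {Q | Hyper A Q ∧ ∀ S : ι, fixSub Q ≠ S.1}, fixSub Q) ⊔ zpowers z
  let S₀ : ι := ⟨fixSub Q₀, 1, by rw [map_one]; exact (Subgroup.map_id _).symm⟩
  have hS₀top : fixSub Q₀ ≠ ⊤ := fun h => by
    obtain ⟨-, a, ha, haQ, htop⟩ := hQ₀
    have hbot : Q₀ = ⊥ := by
      rw [Subgroup.eq_bot_iff_forall]
      exact fun q hq => MulEquiv.ext fun e => (h ▸ mem_top e : e ∈ fixSub Q₀) q hq
    exact hcyc a ha (by rw [← htop, hbot, bot_sup_eq])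
  by_cases hE₁ : E₁ = ⊤
  · -- a single orbit
    have hpair : Pairwise fun i j : ι => ∀ x y, x ∈ i.1 → y ∈ j.1 → Commute x y := by
      intro i j hij x y hx hy
      obtain ⟨Q, hQ, hQi⟩ := hmem i
      obtain ⟨Q', hQ', hQj⟩ := hmem j
      rw [← hQi] at hx
      rw [← hQj] at hy
      exact commute_fix_fix hE hA hr habel hexp hA0 hQ hQ'
        (fun h => hij (Subtype.ext (by rw [← hQi, ← hQj, h]))) hx hy
    have hst : ∀ t : MulAction.stabilizer T S₀, ∀ x ∈ S₀.1,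
        φ.comp (MulAction.stabilizer T S₀).subtype t x ∈ S₀.1 := fun t x hx => by
      have h1 : (t : T) • S₀ = S₀ := t.2
      have h2 : φ (t : T) x ∈ ((t : T) • S₀).1 := ⟨x, hx, rfl⟩
      rw [h1] at h2
      exact h2
    refine good_orbit hE (fun S : ι => S.1) hz hpair hE₁ (fun t S x hx => Subgroup.mem_map_of_mem (φ t).toMonoidHom hx) S₀
      (fun ⟨S, t, hS⟩ => ⟨t, Subtype.ext hS.symm⟩) hst ?_
    refine hrec S₀.1 (hz S₀) hS₀top ?_ _ hst A (fun a x hx => hinvA Q₀ hQ₀ a a.2 x hx) hA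
      (fun t _ => hAt t) (fun e _ h => hAfix e h)
    refine hE.sub (S' := ⨆ (S : ι) (_ : S ≠ S₀), S.1) (hz S₀) (fun x hx y hy => ?_) ?_
    · have hle : (⨆ (S : ι) (_ : S ≠ S₀), S.1) ≤ centralizer {x} := iSup₂_le fun S hS w hw =>
        mem_centralizer_singleton_iff.2 (hpair hS w x hw hx).eq
      exact (mem_centralizer_singleton_iff.1 (hle hy)).symm
    · rw [eq_top_iff, ← hE₁]
      refine iSup_le fun S => ?_
      by_cases hS : S = S₀
      · rw [hS]; exact le_sup_left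
      · exact le_sup_of_le_right (le_iSup₂ (f := fun (S : ι) (_ : S ≠ S₀) => S.1) S hS)
  · have hcommE : ∀ x ∈ E₁, ∀ y ∈ E₂, x * y = y * x := by
      have h2 : ∀ S : ι, E₂ ≤ centralizer (S.1 : Set E) := fun S => by
        refine sup_le (iSup₂_le fun Q hQ y hy => ?_) (zpowers_le.2 ?_)
        · rw [mem_centralizer_iff]
          intro x hx
          obtain ⟨Q', hQ', hS⟩ := hmem S
          exact commute_fix_fix hE hA hr habel hexp hA0 hQ' hQ.1
            (fun h => hQ.2 S (h ▸ hS)) (hS.symm ▸ hx : x ∈ fixSub Q') hy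
        · rw [mem_centralizer_iff]
          exact fun x _ => (hE.comm_z x).symm
      have h1 : E₁ ≤ centralizer (E₂ : Set E) := iSup_le fun S => le_centralizer_iff.1 (h2 S)
      exact fun x hx y hy => (mem_centralizer_iff.1 (h1 hx) y hy).symm
    have hsup : E₁ ⊔ E₂ = ⊤ := hgen _ (mem_sup_right (mem_sup_right (mem_zpowers z))) fun Q hQ => by
      by_cases h : ∀ S : ι, fixSub Q ≠ S.1
      · exact le_sup_of_le_right (le_sup_of_le_left
          (le_iSup₂ (f := fun Q (_ : Q ∈ {Q | Hyper A Q ∧ ∀ S : ι, fixSub Q ≠ S.1}) => fixSub Q)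
            Q ⟨hQ, h⟩))
      · push Not at h
        obtain ⟨S, hS⟩ := h
        exact le_sup_of_le_left (hS ▸ le_iSup (fun S : ι => S.1) S)
    refine htwo E₁ E₂ A (le_iSup (fun S : ι => S.1) S₀ (hE.mem_fixSub_z Q₀))
      (mem_sup_right (mem_zpowers z)) hE₁ (fun h => hQ₀fix ?_) hcommE hsup ?_ ?_ ?_ ?_ hA hAt hAfix
    · intro x hx
      exact hE.mem_zpowers_iff.2 (hE.center_cases x fun y =>
        hcommE x (le_iSup (fun S : ι => S.1) S₀ hx) y (h ▸ mem_top y))
    · intro t x hx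
      have hle : E₁ ≤ E₁.comap (φ t).toMonoidHom := iSup_le fun S w hw =>
        le_iSup (fun S : ι => S.1) (t • S) ⟨w, hw, rfl⟩
      exact hle hx
    · intro t x hx
      have hle : E₂ ≤ E₂.comap (φ t).toMonoidHom := by
        refine sup_le (iSup₂_le fun Q hQ w hw => mem_sup_left ?_)
          (zpowers_le.2 (mem_sup_right (by
            show φ t z ∈ zpowers z
            rw [hE.map_z]; exact mem_zpowers z)))
        refine le_iSup₂ (f := fun Q (_ : Q ∈ {Q | Hyper A Q ∧ ∀ S : ι, fixSub Q ≠ S.1}) => fixSub Q)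
          (Q.map (MulAut.conj (φ t)).toMonoidHom) ⟨hQ.1.map (map_conj_eq_self (hAt t)), fun S hS => ?_⟩
          (by rw [← map_fixSub]; exact ⟨w, hw, rfl⟩)
        apply hQ.2 (t⁻¹ • S)
        show fixSub Q = S.1.map (φ t⁻¹).toMonoidHom
        rw [← hS, ← map_fixSub, Subgroup.map_map]
        conv_lhs => rw [← Subgroup.map_id (fixSub Q)]
        congr 1
        ext v
        show v = φ t⁻¹ (φ t v)
        rw [← MulAut.mul_apply, ← map_mul, inv_mul_cancel, map_one, MulAut.one_apply]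
      exact hle hx
    · intro a ha x hx
      have hle : E₁ ≤ E₁.comap a.toMonoidHom := iSup_le fun S w hw => by
        obtain ⟨Q, hQ, hS⟩ := hmem S
        exact le_iSup (fun S : ι => S.1) S (hS ▸ hinvA Q hQ a ha w (hS.symm ▸ hw))
      exact hle hx
    · intro a ha x hx
      have hle : E₂ ≤ E₂.comap a.toMonoidHom := by
        refine sup_le (iSup₂_le fun Q hQ w hw => mem_sup_left ?_)
          (zpowers_le.2 (mem_sup_right (by
            show a z ∈ zpowers z
            rw [hE.map_z]; exact mem_zpowers z)))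
        exact le_iSup₂ (f := fun Q (_ : Q ∈ {Q | Hyper A Q ∧ ∀ S : ι, fixSub Q ≠ S.1}) => fixSub Q)
          Q hQ (hinvA Q hQ.1 a ha w hw)
      exact hle hx

end Cfsg.Agent.H79.DadeExt
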